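import Cfsg.Prelude.Def_Spor_HN
import Cfsg.Prelude.Def_SporCoxeter

/-!
The fourth power of `x` is one in the presented Harada–Norton group: `y` inverts `x ^ 2`, `x` centralises it, and a
relator in `x` and `y` has odd degree in `y`.
-/

set_option autoImplicit false

namespace Cfsg.Agent.HNOrder

/-- An element inverted by `b` and fixed by `a` is an involution when `(a⁻¹ * b ^ 2 * a * b ^ 3) ^ 3 = 1`. -/
theorem sq_eq_one_of_inverted {G : Type*} [Group G] {a b : G} (hb : b⁻¹ * a ^ 2 * b = (a ^ 2)⁻¹)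
    (h : (a⁻¹ * b ^ 2 * a * b ^ 3) ^ 3 = 1) : a ^ 4 = 1 := by
  set c := a ^ 2 with hc
  have ha : Commute c a := (Commute.refl a).pow_left 2
  have h1 : b⁻¹ * c⁻¹ * b = c := by
    have := congrArg (·⁻¹) hb
    simpa [mul_inv_rev, mul_assoc] using this
  have h2 : Commute c (b ^ 2) := by
    have e : (b ^ 2)⁻¹ * c * b ^ 2 = c := by
      calc (b ^ 2)⁻¹ * c * b ^ 2 = b⁻¹ * (b⁻¹ * c * b) * b := by simp only [pow_two, mul_inv_rev, mul_assoc]
        _ = c := by rw [hb, h1]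
    calc c * b ^ 2 = b ^ 2 * ((b ^ 2)⁻¹ * c * b ^ 2) := by group
      _ = b ^ 2 * c := by rw [e]
  set w := a⁻¹ * b ^ 2 * a * b ^ 2 with hw
  have hcw : Commute c w := ((ha.inv_right.mul_right h2).mul_right ha).mul_right h2
  have hwb : a⁻¹ * b ^ 2 * a * b ^ 3 = w * b := by rw [hw, pow_succ b 2, ← mul_assoc]
  have hwi : w⁻¹ * c * w = c := by rw [mul_assoc, hcw.eq, inv_mul_cancel_left]
  have hk : (w * b)⁻¹ * c * (w * b) = c⁻¹ := by
    calc (w * b)⁻¹ * c * (w * b) = b⁻¹ * (w⁻¹ * c * w) * b := by group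
      _ = c⁻¹ := by rw [hwi, hb]
  have hk' : (w * b)⁻¹ * c⁻¹ * (w * b) = c := by
    have := congrArg (·⁻¹) hk
    simpa [mul_inv_rev, mul_assoc] using this
  rw [hwb] at h
  have e : c = c⁻¹ := by
    calc c = ((w * b) ^ 3)⁻¹ * c * (w * b) ^ 3 := by rw [h]; group
      _ = (w * b)⁻¹ * ((w * b)⁻¹ * ((w * b)⁻¹ * c * (w * b)) * (w * b)) * (w * b) := by
        simp only [pow_succ, pow_zero, one_mul, mul_inv_rev, mul_assoc]
      _ = c⁻¹ := by rw [hk, hk', hk]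
  calc a ^ 4 = c * c := by rw [hc, ← pow_add]
    _ = c * c⁻¹ := by rw [← e]
    _ = 1 := mul_inv_cancel c

/-- In the presented group. -/
theorem x_pow_four : (PresentedGroup.of Cfsg.Spor.HN.Gen.x : Cfsg.Spor.HN) ^ 4 = 1 := by
  have h2 : (PresentedGroup.of Cfsg.Spor.HN.Gen.x : Cfsg.Spor.HN) ^ 2 * PresentedGroup.of Cfsg.Spor.HN.Gen.y *
      (PresentedGroup.of Cfsg.Spor.HN.Gen.x) ^ 2 * (PresentedGroup.of Cfsg.Spor.HN.Gen.y)⁻¹ = 1 := by
    simp only [PresentedGroup.of, ← map_mul, ← map_inv, ← map_pow]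
    exact PresentedGroup.one_of_mem (Or.inr (by simp [Cfsg.Spor.HN.extra, Cfsg.Spor.HN.x, Cfsg.Spor.HN.y]))
  have h4 : ((PresentedGroup.of Cfsg.Spor.HN.Gen.x : Cfsg.Spor.HN)⁻¹ * (PresentedGroup.of Cfsg.Spor.HN.Gen.y) ^ 2 *
      PresentedGroup.of Cfsg.Spor.HN.Gen.x * (PresentedGroup.of Cfsg.Spor.HN.Gen.y) ^ 3) ^ 3 = 1 := by
    simp only [PresentedGroup.of, ← map_mul, ← map_inv, ← map_pow]
    exact PresentedGroup.one_of_mem (Or.inr (by simp [Cfsg.Spor.HN.extra, Cfsg.Spor.HN.x, Cfsg.Spor.HN.y]))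
  refine sq_eq_one_of_inverted ?_ h4
  set X := (PresentedGroup.of Cfsg.Spor.HN.Gen.x : Cfsg.Spor.HN) ^ 2
  set Y := (PresentedGroup.of Cfsg.Spor.HN.Gen.y : Cfsg.Spor.HN)
  calc Y⁻¹ * X * Y = Y⁻¹ * (X * Y * X * Y⁻¹) * Y * X⁻¹ := by group
    _ = X⁻¹ := by rw [h2]; group

end Cfsg.Agent.HNOrder
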