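import Cfsg.Agent.HNOrder.Exact

/-!
The order of the presented Harada–Norton group.
-/

namespace Cfsg.Agent.HNOrder

open Cfsg.Agent.CosetCert Cfsg.Agent.DCoset

/-- The subgroup on `x, y, z` has index 1539000 and the group has order 273030912000000. -/
theorem hn_facts :
    Finite Spor.HN ∧ Nat.card Spor.HN = 273030912000000 ∧
    ∀ H : Subgroup Spor.HN, H = Subgroup.closure
      {PresentedGroup.of Spor.HN.Gen.x, PresentedGroup.of Spor.HN.Gen.y, PresentedGroup.of Spor.HN.Gen.z} →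
      H.index = 1539000 ∧ Nat.card H = 177408000 := by
  obtain ⟨e, he⟩ := exists_iso
  obtain ⟨ι, hι⟩ := exists_ginc
  obtain ⟨P, hP, hq⟩ := exists_hmodel
  obtain ⟨hidx, hinj⟩ := index_eq hP hq ι hι
  have hQ := hgroup_eq hP hq
  have hfinG := gen_ggroup_card.1
  let E : HGroup →* Spor.HN := e.toMonoidHom.comp ι
  have hcardR : Nat.card ι.range = 177408000 := by
    rw [← hQ]; exact (Nat.card_congr (MonoidHom.ofInjective hinj).toEquiv).symm
  have hG : Nat.card Spor.HN = 273030912000000 := by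
    rw [← Nat.card_congr e.toEquiv, ← ι.range.card_mul_index, hidx, hcardR]
  refine ⟨Finite.of_equiv _ e.toEquiv, hG, fun H hH => ?_⟩
  have hE : H = ι.range.map e.toMonoidHom := by
    rw [hH, MonoidHom.range_eq_map, ← PresentedGroup.closure_range_of (wordRels HRels),
      MonoidHom.map_closure, MonoidHom.map_closure]
    congr 1
    have hb : ∀ b : Fin 3, e (ι (PresentedGroup.of b)) = PresentedGroup.of (gGen b.castSucc) := by
      intro b
      rw [← he]
      exact congrArg e (hι [(b, true)])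
    ext x
    constructor
    · rintro (rfl | rfl | rfl)
      exacts [⟨_, ⟨_, ⟨0, rfl⟩, rfl⟩, hb 0⟩, ⟨_, ⟨_, ⟨1, rfl⟩, rfl⟩, hb 1⟩, ⟨_, ⟨_, ⟨2, rfl⟩, rfl⟩, hb 2⟩]
    · rintro ⟨_, ⟨_, ⟨b, rfl⟩, rfl⟩, rfl⟩
      show e (ι (PresentedGroup.of b)) ∈ _
      rw [hb b]
      fin_cases b
      exacts [Or.inl rfl, Or.inr (Or.inl rfl), Or.inr (Or.inr rfl)]
  refine ⟨?_, ?_⟩
  · rw [hE, ← hidx]; exact Subgroup.index_map_equiv (H := ι.range) e
  · rw [hE, Subgroup.card_map_of_injective (e.injective), hcardR]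

end Cfsg.Agent.HNOrder
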