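import Cfsg.Agent.HNOrder.Rewrite
import Cfsg.Agent.CosetCert.HNX4.Main
import Cfsg.Prelude.Def_Spor_HN

/-!
The presented Harada–Norton group on four numbered generators, with the fourth power of `x` added.
-/

namespace Cfsg.Agent.HNOrder

open Cfsg.Agent.CosetCert

set_option maxRecDepth 100000

/-- The relators. -/
def GRels : List (List (Fin 4 × Bool)) := [
    [(1, true), (1, true), (1, true), (1, true), (1, true), (1, true)],
    [(0, true), (0, true), (1, true), (0, true), (0, true), (1, false)],
    [(0, false), (1, false), (0, true), (1, true), (0, false), (1, false), (0, true), (1, true), (0, false), (1, false), (0, true), (1, true)],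
    [(0, false), (1, true), (1, true), (0, true), (1, true), (1, true), (1, true), (0, false), (1, true), (1, true), (0, true), (1, true), (1, true), (1, true), (0, false), (1, true), (1, true), (0, true), (1, true), (1, true), (1, true)],
    [(0, true), (1, true), (0, true), (1, true), (0, true), (1, true), (0, true), (1, true), (0, true), (1, true), (0, true), (1, true), (0, true), (1, true), (0, true), (1, true)],
    [(0, true), (1, true), (0, true), (1, true), (1, true), (1, true), (0, true), (1, true), (0, true), (1, true), (1, true), (1, true), (0, true), (1, true), (0, true), (1, true), (1, true), (1, true), (0, true), (1, true), (0, true), (1, true), (1, true), (1, true)],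
    [(2, true), (2, true)],
    [(2, true), (0, true), (2, true), (0, true)],
    [(2, false), (1, true), (0, false), (1, false), (1, false), (0, false), (1, false), (0, false), (1, false), (2, true), (1, true), (0, true), (1, true), (0, true), (1, true), (1, true), (0, true), (1, false), (0, false), (0, false)],
    [(2, true), (1, false), (0, false), (1, false), (0, false), (1, false), (1, false), (1, false), (2, true), (1, true), (1, true), (1, true), (0, true), (1, true), (0, true), (1, true), (0, true), (1, false), (0, false), (1, false), (0, false), (1, false), (1, false), (1, false), (2, true), (1, true), (1, true), (1, true), (0, true), (1, true), (0, true), (1, true), (0, true), (1, false), (0, false), (1, false), (0, false), (1, false), (1, false), (1, false), (2, true), (1, true), (1, true), (1, true), (0, true), (1, true), (0, true), (1, true), (0, true)],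
    [(0, true), (0, true), (0, true), (0, true)],
    [(3, true), (3, true), (3, true), (3, true), (3, true)],
    [(0, false), (3, true), (0, true), (3, true), (3, true)],
    [(3, false), (1, false), (3, true), (1, true)],
    [(2, true), (3, true), (2, true), (3, true), (2, true), (3, true)]]

/-- The presented group. -/
abbrev GGroup : Type := PresentedGroup (wordRels GRels)

/-- The names of the generators. -/
def gGen (b : Fin 4) : Spor.HN.Gen :=
  if b = 0 then .x else if b = 1 then .y else if b = 2 then .z else .t

/-- The numbers of the generators. -/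
def gNum : Spor.HN.Gen → Fin 4
  | .x => 0
  | .y => 1
  | .z => 2
  | .t => 3

theorem g_extra : ∀ i, i < GRels.length → i ≠ 10 →
    FreeGroup.map gGen (FreeGroup.mk (GRels.getD i [])) ∈ Spor.HN.extra := by decide +kernel

theorem x_extra : ∀ l ∈ HNX4.relWords,
    FreeGroup.map gGen (FreeGroup.mk (l.map fun a => (Fin.castLE (by decide) a.1, a.2))) ∈
      Spor.HN.extra := by decide +kernel

theorem extra_g : ∀ r ∈ Spor.HN.extra, ∃ i, i < GRels.length ∧
    FreeGroup.map gNum r = FreeGroup.mk (GRels.getD i []) := by decide +kernel

/-- The projection to the presented group. -/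
noncomputable def toHN : FreeGroup (Fin 4) →* Spor.HN :=
  (PresentedGroup.mk _).comp (FreeGroup.map gGen)

theorem toHN_extra {w : FreeGroup (Fin 4)} (h : FreeGroup.map gGen w ∈ Spor.HN.extra) : toHN w = 1 :=
  PresentedGroup.one_of_mem (Set.mem_union_right _ h)

theorem toHN_x4 : toHN (FreeGroup.mk [(0, true), (0, true), (0, true), (0, true)]) = 1 := by
  let f : Fin 2 → Spor.HN := fun b => toHN (FreeGroup.of (Fin.castLE (by decide) b))
  have hlift : FreeGroup.lift f = toHN.comp (FreeGroup.map (Fin.castLE (by decide))) :=
    FreeGroup.ext_hom _ _ fun b => by simp [f]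
  have hr : ∀ r ∈ wordRels HNX4.relWords, FreeGroup.lift f r = 1 := by
    intro r hr
    obtain ⟨l, hl, rfl⟩ := List.mem_map.1 hr
    rw [hlift, MonoidHom.comp_apply, FreeGroup.map.mk]
    exact toHN_extra (x_extra l hl)
  have h := HNX4.target_mem
  rw [show HNX4.subGens = [] from rfl,
    show Data.sub (wordRels HNX4.relWords) ([] : List (FreeGroup (Fin 2))) = ⊥ by simp [Data.sub],
    Subgroup.mem_bot] at h
  have h2 := congrArg (PresentedGroup.toGroup hr) h
  rw [map_one] at h2
  have hc : (PresentedGroup.toGroup hr).comp (PresentedGroup.mk (wordRels HNX4.relWords)) =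
      FreeGroup.lift f := FreeGroup.ext_hom _ _ fun b => by
    simp only [MonoidHom.comp_apply, FreeGroup.lift_apply_of]
    exact PresentedGroup.toGroup.of hr
  rw [← MonoidHom.comp_apply, hc, hlift, MonoidHom.comp_apply, FreeGroup.map.mk] at h2
  exact h2

theorem toHN_rels : ∀ r ∈ wordRels GRels, toHN r = 1 := by
  intro r hr
  obtain ⟨l, hl, rfl⟩ := List.mem_map.1 hr
  obtain ⟨i, hi, rfl⟩ := List.getElem_of_mem hl
  rw [← List.getD_eq_getElem _ [] hi]
  rcases eq_or_ne i 10 with rfl | h
  · exact toHN_x4
  · exact toHN_extra (g_extra i hi h)

/-- The presented group is the Harada–Norton group. -/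
theorem exists_iso : ∃ e : GGroup ≃* Spor.HN,
    ∀ b, e (PresentedGroup.of b) = PresentedGroup.of (gGen b) := by
  let f : Fin 4 → Spor.HN := fun b => PresentedGroup.of (gGen b)
  have hf : FreeGroup.lift f = toHN := FreeGroup.ext_hom _ _ fun b => by
    simp [f, toHN]; rfl
  have h1 : ∀ r ∈ wordRels GRels, FreeGroup.lift f r = 1 := fun r hr => by rw [hf]; exact toHN_rels r hr
  let g : Spor.HN.Gen → GGroup := fun c => PresentedGroup.of (gNum c)
  have hg : FreeGroup.lift g = (PresentedGroup.mk (wordRels GRels)).comp (FreeGroup.map gNum) :=
    FreeGroup.ext_hom _ _ fun b => by simp [g]; rfl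
  have h2 : ∀ r ∈ Spor.coxRelators Spor.HN.edges ∪ {r | r ∈ Spor.HN.extra},
      FreeGroup.lift g r = 1 := by
    rintro r (⟨_, hx, -⟩ | hr)
    · simp [Spor.coxNodes, Spor.HN.edges] at hx
    · obtain ⟨i, hi, he⟩ := extra_g r hr
      rw [hg, MonoidHom.comp_apply, he, List.getD_eq_getElem _ _ hi]
      exact wd_rel GRels (List.getElem_mem hi)
  refine ⟨MonoidHom.toMulEquiv (PresentedGroup.toGroup h1) (PresentedGroup.toGroup h2) ?_ ?_,
    fun b => PresentedGroup.toGroup.of h1⟩
  · refine PresentedGroup.ext fun b => ?_
    rw [MonoidHom.comp_apply, PresentedGroup.toGroup.of h1, MonoidHom.id_apply]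
    show PresentedGroup.toGroup h2 (PresentedGroup.of (gGen b)) = _
    rw [PresentedGroup.toGroup.of h2]
    fin_cases b <;> rfl
  · refine PresentedGroup.ext fun c => ?_
    rw [MonoidHom.comp_apply, PresentedGroup.toGroup.of h2, MonoidHom.id_apply]
    show PresentedGroup.toGroup h1 (PresentedGroup.of (gNum c)) = _
    rw [PresentedGroup.toGroup.of h1]
    cases c <;> rfl

end Cfsg.Agent.HNOrder
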