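import Cfsg.Agent.HNOrder.HModel
import Cfsg.Agent.HNOrder.GRels
import Cfsg.Agent.DCoset.HN.Cert

/-!
The index bound for the Harada–Norton group: at most 1539000 cosets of the subgroup on `x, y, z`.
-/

namespace Cfsg.Agent.HNOrder

open Cfsg.Agent.CosetCert Cfsg.Agent.DCoset

set_option maxRecDepth 100000

/-- A power of `t` as a word. -/
def gTw (t : Nat) : List (Fin 4 × Bool) := List.replicate t (3, true)

/-- The extra letters. -/
def gT (t : Nat) : GGroup := wd GRels (gTw t)

/-- A packed word in `x, y, z` as a word in four generators. -/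
def gw (w : Nat) : List (Fin 4 × Bool) := (unpack 2 w).map fun a => (a.1.castSucc, a.2)

/-- Derivations of the rules. -/
def gRuleCert : List (List (List (Fin 4 × Bool) × Nat × Bool)) := [
    [],
    [],
    [],
    [],
    [],
    [],
    [([(3, true), (0, true)], 11, false), ([(0, true)], 12, true)],
    [([(3, true), (0, false), (3, false), (0, true), (3, true), (3, true)], 12, false), ([(3, true), (3, true), (3, true)], 12, false), ([], 11, true)],
    [([(1, true), (3, true)], 13, true)],
    [([(1, false), (3, true), (1, true)], 13, false)],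
    [([(3, true), (0, true)], 12, true), ([(3, true), (0, true)], 11, false), ([(0, true)], 12, true)],
    [([(3, true), (3, true), (0, false)], 11, false), ([(0, false), (3, false), (0, true)], 12, true)],
    [([(3, true), (1, true), (3, true)], 13, true), ([(1, true), (3, true)], 13, true)],
    [([(3, true), (1, false), (3, true), (1, true)], 13, false), ([(1, false), (3, true), (1, true)], 13, false)],
    [([(3, true), (3, true), (3, true), (0, true), (3, false), (3, false)], 12, false), ([(3, true), (3, true), (3, true), (3, true), (0, true), (3, true), (3, true)], 12, false), ([], 11, true)],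
    [([(3, true), (3, true), (3, true), (3, true), (3, true)], 12, false), ([], 11, true)],
    [([(3, true), (3, true), (1, true), (3, true)], 13, true), ([(3, true), (1, true), (3, true)], 13, true), ([(1, true), (3, true)], 13, true)],
    [([(3, true), (3, true), (1, false), (3, true), (1, true)], 13, false), ([(3, true), (1, false), (3, true), (1, true)], 13, false), ([(1, false), (3, true), (1, true)], 13, false)],
    [([(3, true), (3, true), (3, true), (3, true), (3, true), (0, true), (3, true), (3, true)], 12, false), ([], 11, true)],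
    [([(3, true), (3, true), (0, false), (3, false), (0, true)], 12, true), ([(3, true), (3, true), (0, false)], 11, false), ([(0, false), (3, false), (0, true)], 12, true)],
    [([(3, true), (3, true), (3, true), (3, true), (1, true)], 11, false), ([], 11, true), ([(1, true)], 13, false)],
    [([(3, true), (3, true), (3, true), (3, true), (1, false)], 11, false), ([], 11, true), ([], 13, true)]]

/-- Derivation of the relator of the certificate. -/
def gRelCert : List (List (Fin 4 × Bool) × Nat × Bool) :=
  [([(2, false)], 14, true), ([], 6, false)]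

/-- Derivation of a relation between powers of `t`. -/
def gPowCert (e : Nat) : List (List (Fin 4 × Bool) × Nat × Bool) := if e < 5 then [] else [([], 11, true)]

theorem g_rule_check : ∀ r, r < HN.rules.nRule →
    HN.rules.rS r < HN.rules.nT ∧ HN.rules.rD r < HN.rules.nT ∧
    HN.tab.okWord (HN.rules.rU r) = true ∧ HN.tab.okWord (HN.rules.rV r) = true ∧
    FreeGroup.reduce ((gTw (HN.rules.rS r) ++ gw (HN.rules.rV r)) ++
      FreeGroup.invRev (gw (HN.rules.rU r) ++ gTw (HN.rules.rD r))) =
      FreeGroup.reduce (derivWord GRels (gRuleCert.getD r [])) := by decide +kernel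

theorem g_rel_check : ∀ r, r < HN.rules.nRel →
    HN.rules.relHd r < HN.rules.nT ∧ HN.tab.okWord (HN.rules.relTl r) = true ∧
    (∀ m, m < HN.rules.relLen r →
      HN.rules.relT r m < HN.rules.nT ∧ HN.tab.okWord (HN.rules.relW r m) = true) ∧
    FreeGroup.reduce ((gTw (HN.rules.relHd r) ++ (List.range (HN.rules.relLen r)).flatMap fun m =>
        gw (HN.rules.relW r m) ++ gTw (HN.rules.relT r m)) ++
      FreeGroup.invRev (gw (HN.rules.relTl r))) =
      FreeGroup.reduce (derivWord GRels gRelCert) := by decide +kernel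

theorem g_t_check : ∀ s, s < HN.rules.nT → HN.rules.invT s < HN.rules.nT ∧
    FreeGroup.reduce ((gTw s ++ gTw (HN.rules.invT s)) ++ FreeGroup.invRev []) =
      FreeGroup.reduce (derivWord GRels (gPowCert (s + HN.rules.invT s))) := by decide +kernel

theorem g_mul_check : ∀ s, s < HN.rules.nT → ∀ t, t < HN.rules.nT → HN.rules.mulT s t ≠ 0 →
    HN.rules.mulT s t - 1 < HN.rules.nT ∧
    FreeGroup.reduce ((gTw s ++ gTw t) ++ FreeGroup.invRev (gTw (HN.rules.mulT s t - 1))) =
      FreeGroup.reduce (derivWord GRels (gPowCert (s + t))) := by decide +kernel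

theorem g_sub_rels : ∀ l ∈ HRels, (l.map fun a => (Fin.castSucc a.1, a.2)) ∈ GRels := by decide +kernel

/-- The map of the subgroup on `x, y, z`. -/
theorem exists_ginc : ∃ ι : HGroup →* GGroup, ∀ l,
    ι (wd HRels l) = wd GRels (l.map fun a => (Fin.castSucc a.1, a.2)) :=
  exists_rename HRels GRels Fin.castSucc fun l hl => wd_rel GRels (g_sub_rels l hl)

/-- The rules hold in the Harada–Norton group. -/
theorem g_sound (P : QModel HGroup) (hP : P.toTab = HN.tab) (hq : P.q = letterEl HRels)
    (ι : HGroup →* GGroup)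
    (hι : ∀ l, ι (wd HRels l) = wd GRels (l.map fun a => (Fin.castSucc a.1, a.2))) :
    HN.rules.Sound (P.toModel ι) gT := by
  have hv : ∀ w, val (P.toModel ι).lv w = wd GRels (gw w) := fun w => by
    rw [P.el_val, QModel.el, hq, val_letterEl, hι]
    rfl
  have hok : ∀ w, HN.tab.okWord w = true → (P.toModel ι).toTab.okWord w = true := fun w hw => by
    show P.toTab.okWord w = true
    rw [hP]
    exact hw
  constructor
  · exact wd_nil GRels
  · intro s hs
    refine ⟨(g_t_check s hs).1, ?_⟩
    rw [gT, gT, ← wd_append, ← wd_nil GRels]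
    exact wd_eq_of_deriv GRels _ (g_t_check s hs).2
  · intro s t hs ht h
    refine ⟨(g_mul_check s hs t ht h).1, ?_⟩
    rw [gT, gT, gT, ← wd_append]
    exact wd_eq_of_deriv GRels _ (g_mul_check s hs t ht h).2
  · intro r hr
    obtain ⟨h1, h2, h3, h4, h5⟩ := g_rule_check r hr
    refine ⟨h1, h2, hok _ h3, hok _ h4, ?_⟩
    rw [hv, hv, gT, gT, ← wd_append, ← wd_append]
    exact wd_eq_of_deriv GRels _ h5
  · intro r hr
    obtain ⟨h1, h2, h3, h4⟩ := g_rel_check r hr
    refine ⟨h1, hok _ h2, fun m hm => ⟨(h3 m hm).1, hok _ (h3 m hm).2⟩, ?_⟩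
    simp only [hv, gT, ← wd_append, ← wd_flatMap]
    exact wd_eq_of_deriv GRels _ h4

theorem gen_model (P : QModel HGroup) (hP : P.toTab = HN.tab) (hq : P.q = letterEl HRels) :
    Subgroup.closure {x | ∃ g, g < P.nL ∧ x = P.q g} = ⊤ := by
  rw [hq, hP]
  exact letterEl_top HRels HN.tab rfl

theorem gen_group (ι : HGroup →* GGroup)
    (hι : ∀ l, ι (wd HRels l) = wd GRels (l.map fun a => (Fin.castSucc a.1, a.2))) :
    Subgroup.closure (Set.range ι ∪ {x | ∃ t, t < HN.rules.nT ∧ x = gT t}) = ⊤ := by
  rw [eq_top_iff, ← PresentedGroup.closure_range_of (wordRels GRels), Subgroup.closure_le]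
  rintro _ ⟨b, rfl⟩
  fin_cases b
  · exact Subgroup.subset_closure (Or.inl ⟨wd HRels [(0, true)], hι _⟩)
  · exact Subgroup.subset_closure (Or.inl ⟨wd HRels [(1, true)], hι _⟩)
  · exact Subgroup.subset_closure (Or.inl ⟨wd HRels [(2, true)], hι _⟩)
  · exact Subgroup.subset_closure (Or.inr ⟨1, show 1 < 5 by omega, rfl⟩)

theorem g_holds (P : QModel HGroup) (hP : P.toTab = HN.tab) (hq : P.q = letterEl HRels)
    (ι : HGroup →* GGroup)
    (hι : ∀ l, ι (wd HRels l) = wd GRels (l.map fun a => (Fin.castSucc a.1, a.2))) :
    ∀ s, s < HN.steps.len → HN.steps.Holds HN.rules (P.toModel ι) ι.range gT s :=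
  Steps.holds (g_sound P hP hq ι hι) (fun g _ => ⟨P.q g, rfl⟩) HN.node_src (show 0 < 5 by omega)
    fun s hs => by
      show Steps.check _ _ P.toTab s = true
      rw [hP]
      exact HN.steps_ok s hs

/-- The index bound. -/
theorem g_index_le (ι : HGroup →* GGroup)
    (hι : ∀ l, ι (wd HRels l) = wd GRels (l.map fun a => (Fin.castSucc a.1, a.2))) :
    ι.range.index ≠ 0 ∧ ι.range.index ≤ 1539000 := by
  obtain ⟨P, hP, hq⟩ := exists_hmodel
  have := hgroup_card.1
  have h := Cover.index_le ι gT hgroup_card.2 (gen_model P hP hq) (gen_group ι hι) (g_sound P hP hq ι hι)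
    (by rw [hP]; exact HN.valid) (g_holds P hP hq ι hι)
  rwa [HN.idx_sum] at h

theorem gen_ggroup_card : Finite GGroup ∧ Nat.card GGroup ≤ 177408000 * 1539000 := by
  obtain ⟨ι, hι⟩ := exists_ginc
  obtain ⟨hne, hle⟩ := g_index_le ι hι
  have := hgroup_card.1
  have h1 : Nat.card ι.range ≤ 177408000 :=
    (Nat.card_le_card_of_surjective _ ι.rangeRestrict_surjective).trans hgroup_card.2
  have : Finite ι.range := Finite.of_surjective _ ι.rangeRestrict_surjective
  have hpos : 0 < Nat.card ι.range := Nat.card_pos
  have hmul := ι.range.card_mul_index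
  refine ⟨(Nat.card_ne_zero.1 (by rw [← hmul]; exact Nat.mul_ne_zero (by omega) hne)).2, ?_⟩
  rw [← hmul]
  exact Nat.mul_le_mul h1 hle

end Cfsg.Agent.HNOrder
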