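import Cfsg.Agent.HNOrder.LowValid
import Cfsg.Agent.HNOrder.Upper

/-!
The exact order of the Harada–Norton group and of its subgroup on `x, y, z`.
-/

namespace Cfsg.Agent.HNOrder

open Cfsg.Agent.CosetCert Cfsg.Agent.DCoset

set_option maxRecDepth 100000

theorem closed_gens : ∀ m, m < 9 → 1 ≤ m →
    HNLow.cJ m < 33 ∧ HNLow.low.rM (HNLow.cJ m) = m ∧ 0 < HNLow.cK m ∧
    (HNLow.closed m).nG (HNLow.cK m) = 0 ∧
    (HNLow.closed m).nG 0 = HNLow.low.nW (HNLow.cJ m) ∧
    (∀ a, a < (HNLow.closed m).nG 0 → (HNLow.closed m).gW 0 a = HNLow.low.wW (HNLow.cJ m) a) ∧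
    (∀ l, l < HNLow.cK m → 0 < (HNLow.closed m).size l ∧ (HNLow.closed m).rep l 0 = 0) ∧
    HN.cover.idx m *
      ((List.range HNLow.low.nP).countP (fun c => Nat.beq (HNLow.low.lJ m c) (HNLow.cJ m)) *
        ((List.range (HNLow.cK m)).map (HNLow.closed m).size).prod) ≤ 177408000 := by decide +kernel

theorem node0 : HN.cover.idx 0 = 1 ∧ HN.cover.nLive = 9 ∧
    ∀ g, g < 6 → g < HNLow.low.nStab 0 ∧ HNLow.low.stabW 0 g = g * 65536 + 1 := by decide +kernel

theorem node1_fix : ∀ a, a < HNLow.low.nStab 1 →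
    actW HN.tab.act (fld HN.tab.base 0) (HNLow.low.stabW 1 a) = fld HN.tab.base 0 := by decide +kernel

theorem base_reach : ∀ l, l < HN.tab.k →
    fld (Cover.appP HN.tab HN.tab.base ([0, 0x40001, 0x2040002, 0x103040003, 0x102040003,
      0x20102040004].getD l 0)) 0 = fld HN.tab.base l ∧
    Cover.okP HN.tab ([0, 0x40001, 0x2040002, 0x103040003, 0x102040003,
      0x20102040004].getD l 0) = true := by decide +kernel

theorem base_lt : HN.tab.base < 65536 ^ HN.tab.k := by decide +kernel

theorem rels_split : ∀ l ∈ GRels, (∃ l' ∈ HRels, l = l'.map fun a => (Fin.castSucc a.1, a.2)) ∨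
    l = [(3, true), (3, true), (3, true), (3, true), (3, true)] ∨
    l = [(0, false), (3, true), (0, true), (3, true), (3, true)] ∨
    l = [(3, false), (1, false), (3, true), (1, true)] ∨
    l = [(2, true), (3, true), (2, true), (3, true), (2, true), (3, true)] := by decide +kernel

variable {P : QModel HGroup} (hP : P.toTab = HN.tab) (hq : P.q = letterEl HRels)
include hP hq

theorem hgroup_eq : Nat.card HGroup = 177408000 := by
  have := hgroup_card.1
  refine le_antisymm hgroup_card.2 ?_
  have hgen : Subgroup.closure {x | ∃ g, g < P.nL ∧ x = P.q g} = ⊤ := by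
    rw [hq, hP]; exact letterEl_top HRels HN.tab rfl
  have h := P.card_ge (⊤ : Subgroup HGroup) HN.qChain (fun _ _ _ _ => trivial)
    (fun l a hl ha => by rw [hP] at hl ⊢; exact allFrom_all (allFrom_all HN.chain_gen hl : _) ha)
    (fun l m hl hm => by rw [hP] at hl ⊢; exact allFrom_all (allFrom_all HN.chain_pt hl : _) hm)
  rw [hP, h_prod, Subgroup.card_top] at h
  exact h

theorem stab_zero : HNLow.low.stab P 0 = ⊤ := by
  rw [eq_top_iff, ← show Subgroup.closure {x | ∃ g, g < P.nL ∧ x = P.q g} = ⊤ by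
    rw [hq, hP]; exact letterEl_top HRels HN.tab rfl, Subgroup.closure_le]
  rintro _ ⟨g, hg, rfl⟩
  have hg6 : g < 6 := by rw [hP] at hg; exact hg
  obtain ⟨h1, h2⟩ := node0.2.2 g hg6
  refine Subgroup.subset_closure ⟨g, h1, ?_⟩
  rw [h2, QModel.el, val, show (g * 65536 + 1) % 65536 = 1 by omega,
    show (g * 65536 + 1) / 65536 = g by omega, valW, valW, mul_one, Nat.mod_eq_of_lt (by omega)]

theorem card_points : 1539000 ≤ Nat.card (HNLow.low.Pt P) := by
  have := hgroup_card.1
  have V := low_valid hP hq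
  rw [Low.Valid.card_pt, ← HN.idx_sum, node0.2.1,
    Fin.sum_univ_eq_sum_range (fun m => (HNLow.low.stab P m).index) HNLow.low.n,
    show ((List.range 9).map HN.cover.idx).sum = ∑ m ∈ Finset.range 9, HN.cover.idx m from rfl]
  refine Finset.sum_le_sum fun m hm => ?_
  have hm : m < 9 := Finset.mem_range.1 hm
  have hne : (HNLow.low.stab P m).index ≠ 0 := Subgroup.index_ne_zero_of_finite
  rcases Nat.eq_zero_or_pos m with rfl | hpos
  · rw [node0.1]; omega
  obtain ⟨hj, hjm, hK, hend, hn0, hgw, hrep, hnum⟩ := closed_gens m hm hpos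
  have h1 := Low.Valid.card_stab V (j := HNLow.cJ m) hj
  rw [hjm] at h1
  have hset : HNLow.low.grpW P (HNLow.cJ m) =
      Subgroup.closure {x | ∃ a, a < (HNLow.closed m).nG 0 ∧ x = P.el ((HNLow.closed m).gW 0 a)} := by
    rw [Low.grpW]
    congr 1
    ext x
    constructor
    · rintro ⟨b, hb, rfl⟩
      exact ⟨b, hn0.symm ▸ hb, by rw [hgw b (hn0.symm ▸ hb)]⟩
    · rintro ⟨a, ha, rfl⟩
      exact ⟨a, hn0 ▸ ha, by rw [hgw a ha]⟩
  have h2 := Closed.card_le P (HNLow.closed m) hend
    (fun l hl => by rw [hP]; exact allFrom_all (allFrom_all HNLow.closed_ok hm : _) hl)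
    hrep
    (fun l i a hl hi ha => by
      rw [hP]
      exact allFrom_all (allFrom_all (allFrom_all (allFrom_all HNLow.closed_chk hm : _) hl : _) hi : _) ha)
  rw [← hset] at h2
  have h3 : Nat.card (HNLow.low.stab P m) ≤
      (List.range HNLow.low.nP).countP (fun c => Nat.beq (HNLow.low.lJ m c) (HNLow.cJ m)) *
        ((List.range (HNLow.cK m)).map (HNLow.closed m).size).prod :=
    le_trans h1 (Nat.mul_le_mul_left _ h2)
  have h4 : HN.cover.idx m * Nat.card (HNLow.low.stab P m) ≤ 177408000 :=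
    le_trans (Nat.mul_le_mul_left _ h3) hnum
  have hcard := (HNLow.low.stab P m).card_mul_index
  rw [hgroup_eq hP hq, mul_comm] at hcard
  rw [← hcard] at h4
  exact Nat.le_of_mul_le_mul_right h4 Nat.card_pos

/-- The action on the points. -/
theorem exists_perm_action : ∃ ρ : GGroup →* Equiv.Perm (HNLow.low.Pt P),
    (∀ (ι : HGroup →* GGroup), (∀ l, ι (wd HRels l) = wd GRels (l.map fun a => (Fin.castSucc a.1, a.2))) →
      ∀ (q : HGroup) x, ρ (ι q) x = Low.rmul HNLow.low P x q⁻¹) ∧
    ∀ hn : 0 < HNLow.low.n, ∀ x, ∃ g, ρ g (Low.pt HNLow.low P hn 1) = x := by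
  classical
  have := hgroup_card.1
  have V := low_valid hP hq
  obtain ⟨F, hF⟩ := V.exists_act
  have hF : Low.IsAct V F := hF
  have hmul : ∀ s t, s < 5 → t < 5 → ∀ x, F t (F s x) = F ((s + t) % 5) x :=
    fun s t hs ht x => (V.act_mul hF x (s := s) (t := t) hs ht).2
  let R : HGroup →* Equiv.Perm (HNLow.low.Pt P) :=
    { toFun := fun q =>
        { toFun := fun x => Low.rmul HNLow.low P x q⁻¹
          invFun := fun x => Low.rmul HNLow.low P x q
          left_inv := fun x => by simp [Low.rmul_mul, Low.rmul_one]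
          right_inv := fun x => by simp [Low.rmul_mul, Low.rmul_one] }
      map_one' := Equiv.ext fun x => by simp [Low.rmul_one]
      map_mul' := fun q r => Equiv.ext fun x => by simp [Low.rmul_mul, mul_inv_rev] }
  have hR : ∀ q x, R q x = Low.rmul HNLow.low P x q⁻¹ := fun _ _ => rfl
  let τ : Equiv.Perm (HNLow.low.Pt P) :=
    { toFun := F 1
      invFun := F 4
      left_inv := fun x => by rw [hmul 1 4 (by norm_num) (by norm_num), show (1 + 4) % 5 = 0 from rfl, V.act_zero hF]
      right_inv := fun x => by rw [hmul 4 1 (by norm_num) (by norm_num), show (4 + 1) % 5 = 0 from rfl, V.act_zero hF] }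
  have hτ : ∀ x, τ x = F 1 x := fun _ => rfl
  have hτi : ∀ x, τ⁻¹ (τ x) = x := fun x => by simp
  let f : Fin 4 → Equiv.Perm (HNLow.low.Pt P) := fun b =>
    if h : b.val < 3 then R (PresentedGroup.of ⟨b.val, h⟩) else τ⁻¹
  have hfR : ∀ l : List (Fin 3 × Bool),
      FreeGroup.lift f (FreeGroup.mk (l.map fun a => (Fin.castSucc a.1, a.2))) = R (wd HRels l) := by
    have : (FreeGroup.lift f).comp (FreeGroup.map Fin.castSucc) = R.comp (PresentedGroup.mk (wordRels HRels)) :=
      FreeGroup.ext_hom _ _ fun b => by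
        simp only [MonoidHom.comp_apply, FreeGroup.map.of, FreeGroup.lift_apply_of]
        show f b.castSucc = _
        simp only [f, Fin.val_castSucc, b.isLt, dif_pos, Fin.eta]
        rfl
    intro l
    have h := DFunLike.congr_fun this (FreeGroup.mk l)
    rwa [MonoidHom.comp_apply, MonoidHom.comp_apply, FreeGroup.map.mk] at h
  have hf3 : f 3 = τ⁻¹ := rfl
  -- letters of U
  have hg4 : ∀ g, g < 4 → P.q g ∈ HNLow.low.grpU P := fun g hg =>
    Subgroup.subset_closure ⟨g, hg, rfl⟩
  have hpi : ∀ g, g < 4 → hPi P (P.q g) 1 = HNLow.low.piLet g 1 := fun g hg =>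
    (V.pi_let g hg 1 (show 1 < 5 by norm_num)).symm
  have hx : P.q 0 = (PresentedGroup.of (0 : Fin 3) : HGroup) := by rw [hq]; rfl
  have hy : P.q 2 = (PresentedGroup.of (1 : Fin 3) : HGroup) := by rw [hq]; rfl
  have hcomm : ∀ g, g < 4 → ∀ x, F 1 (Low.rmul HNLow.low P x (P.q g)) =
      Low.rmul HNLow.low P (F (HNLow.low.piLet g 1) x) (P.q g) := fun g hg x => by
    rw [V.act_rmul hF x (hg4 g hg) (show 1 < HNLow.low.nT from show 1 < 5 by norm_num), hpi g hg]
  have hrel : ∀ r ∈ wordRels GRels, FreeGroup.lift f r = 1 := by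
    intro r hr
    obtain ⟨l, hl, rfl⟩ := List.mem_map.1 hr
    rcases rels_split l hl with ⟨l', hl', rfl⟩ | rfl | rfl | rfl | rfl
    · rw [hfR, wd_rel HRels hl', map_one]
    · rw [← inv_eq_one, FreeGroup.lift_mk]
      simp only [List.map_cons, List.map_nil, List.prod_cons, List.prod_nil, cond_true, hf3]
      refine Equiv.ext fun x => ?_
      simp only [mul_inv_rev, inv_inv, inv_one, one_mul, Equiv.Perm.mul_apply, Equiv.Perm.one_apply, hτ]
      have e2 : F 1 (F 1 x) = F 2 x := hmul 1 1 (by norm_num) (by norm_num) x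
      have e3 : F 1 (F 2 x) = F 3 x := hmul 2 1 (by norm_num) (by norm_num) x
      have e4 : F 1 (F 3 x) = F 4 x := hmul 3 1 (by norm_num) (by norm_num) x
      have e5 : F 1 (F 4 x) = F 0 x := hmul 4 1 (by norm_num) (by norm_num) x
      rw [e2, e3, e4, e5]
      exact V.act_zero hF x
    · rw [← inv_eq_one, FreeGroup.lift_mk]
      simp only [List.map_cons, List.map_nil, List.prod_cons, List.prod_nil, cond_true, cond_false, hf3]
      refine Equiv.ext fun x => ?_
      have h0 : f 0 = R (P.q 0) := by rw [hx]; rfl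
      simp only [h0, mul_inv_rev, inv_inv, inv_one, one_mul, Equiv.Perm.mul_apply, Equiv.Perm.one_apply,
        ← map_inv, hτ, hR]
      have h3 := hcomm 0 (by norm_num)
      rw [show HNLow.low.piLet 0 1 = 2 by decide +kernel] at h3
      set w := Low.rmul HNLow.low P x (P.q 0)⁻¹ with hw
      have e3 : F 2 (F 1 w) = F 3 w := hmul 1 2 (by norm_num) (by norm_num) w
      have e5 : F 2 (F 3 w) = F 0 w := hmul 3 2 (by norm_num) (by norm_num) w
      rw [h3, h3, e3, e5, V.act_zero hF, hw, Low.rmul_mul, inv_mul_cancel, Low.rmul_one]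
    · rw [← inv_eq_one, FreeGroup.lift_mk]
      simp only [List.map_cons, List.map_nil, List.prod_cons, List.prod_nil, cond_true, cond_false, hf3]
      refine Equiv.ext fun x => ?_
      have h0 : f 1 = R (P.q 2) := by rw [hy]; rfl
      simp only [h0, mul_inv_rev, inv_inv, inv_one, one_mul, Equiv.Perm.mul_apply, Equiv.Perm.one_apply,
        ← map_inv, hR]
      have h3 := hcomm 2 (by norm_num)
      rw [show HNLow.low.piLet 2 1 = 1 by decide +kernel] at h3
      rw [hτ, ← h3, Low.rmul_mul, inv_mul_cancel, Low.rmul_one, ← hτ]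
      simp
    · rw [← inv_eq_one, FreeGroup.lift_mk]
      simp only [List.map_cons, List.map_nil, List.prod_cons, List.prod_nil, cond_true, hf3]
      refine Equiv.ext fun x => ?_
      have h0 : f 2 = R (PresentedGroup.of 2) := rfl
      have hz : P.el HNLow.lrel.zW = (PresentedGroup.of (2 : Fin 3) : HGroup) := by
        rw [QModel.el, hq, val_letterEl]
        rfl
      have h := V.act_rel hF (rel_valid hP) x
      rw [hz] at h
      simp only [h0, mul_inv_rev, inv_inv, inv_one, one_mul, Equiv.Perm.mul_apply, Equiv.Perm.one_apply,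
        ← map_inv, hR, hτ]
      exact h
  refine ⟨PresentedGroup.toGroup hrel, fun ι hι q x => ?_, fun hn => ?_⟩
  · have hcomp : (PresentedGroup.toGroup hrel).comp ι = R := PresentedGroup.ext fun b => by
      rw [MonoidHom.comp_apply]
      show PresentedGroup.toGroup hrel (ι (wd HRels [(b, true)])) = _
      rw [hι]
      show PresentedGroup.toGroup hrel (PresentedGroup.of b.castSucc) = _
      rw [PresentedGroup.toGroup.of hrel]
      simp only [f, Fin.val_castSucc, b.isLt, dif_pos, Fin.eta]
    rw [← MonoidHom.comp_apply, hcomp, hR]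
  · obtain ⟨ι, hι⟩ := exists_ginc
    set x0 := Low.pt HNLow.low P hn 1
    let S : Set (HNLow.low.Pt P) := {x | ∃ g, PresentedGroup.toGroup hrel g x0 = x}
    have hι' : ∀ q x, PresentedGroup.toGroup hrel (ι q) x = Low.rmul HNLow.low P x q⁻¹ := by
      intro q x
      have hcomp : (PresentedGroup.toGroup hrel).comp ι = R := PresentedGroup.ext fun b => by
        rw [MonoidHom.comp_apply]
        show PresentedGroup.toGroup hrel (ι (wd HRels [(b, true)])) = _
        rw [hι]
        show PresentedGroup.toGroup hrel (PresentedGroup.of b.castSucc) = _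
        rw [PresentedGroup.toGroup.of hrel]
        simp only [f, Fin.val_castSucc, b.isLt, dif_pos, Fin.eta]
      rw [← MonoidHom.comp_apply, hcomp, hR]
    refine V.reach hF (fun m hm => by rw [hP]; exact allFrom_all HNLow.reach_all hm) S hn ⟨1, by simp [x0]⟩
      ?_ ?_
    · rintro x ⟨g, rfl⟩ q
      exact ⟨ι q⁻¹ * g, by rw [map_mul, Equiv.Perm.mul_apply, hι', inv_inv]⟩
    · rintro x ⟨g, rfl⟩ t ht
      have h1 : ∀ y ∈ S, F 1 y ∈ S := by
        rintro y ⟨g, rfl⟩
        refine ⟨(PresentedGroup.of 3)⁻¹ * g, ?_⟩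
        rw [map_mul, Equiv.Perm.mul_apply, map_inv, PresentedGroup.toGroup.of hrel, hf3, inv_inv]
        rfl
      have h2 : ∀ t, t < 5 → ∀ y ∈ S, F t y ∈ S := by
        intro t
        induction t with
        | zero => intro _ y hy; rw [V.act_zero hF]; exact hy
        | succ t ih =>
          intro ht y hy
          have := h1 _ (ih (by omega) y hy)
          rwa [hmul t 1 (by omega) (by norm_num), Nat.mod_eq_of_lt ht] at this
      exact h2 t ht _ ⟨g, rfl⟩

/-- The index is exact and the subgroup is embedded. -/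
theorem index_eq (ι : HGroup →* GGroup)
    (hι : ∀ l, ι (wd HRels l) = wd GRels (l.map fun a => (Fin.castSucc a.1, a.2))) :
    ι.range.index = 1539000 ∧ Function.Injective ι := by
  classical
  have := hgroup_card.1
  obtain ⟨ρ, hρ, htr⟩ := exists_perm_action hP hq
  have V := low_valid hP hq
  have hn : 0 < HNLow.low.n := show 0 < 9 by norm_num
  have hn1 : 1 < HNLow.low.n := show 1 < 9 by norm_num
  obtain ⟨hne, hle⟩ := g_index_le ι hι
  have hfix : ∀ q, ρ (ι q) (Low.pt HNLow.low P hn 1) = Low.pt HNLow.low P hn 1 := fun q => by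
    rw [hρ ι hι, Low.rmul_pt, Low.pt_eq, stab_zero hP hq]
    trivial
  refine ⟨le_antisymm hle ?_, ?_⟩
  · let Φ : GGroup ⧸ ι.range → HNLow.low.Pt P := fun z =>
      Quotient.liftOn' z (fun g => ρ g (Low.pt HNLow.low P hn 1)) fun g g' h => by
        rw [QuotientGroup.leftRel_apply] at h
        obtain ⟨q, hq'⟩ := h
        rw [show g' = g * ι q by rw [hq']; group, map_mul, Equiv.Perm.mul_apply, hfix]
    have hΦ : Function.Surjective Φ := fun x => by
      obtain ⟨g, hg⟩ := htr hn x
      exact ⟨QuotientGroup.mk g, hg⟩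
    have : Finite (GGroup ⧸ ι.range) := Nat.finite_of_card_ne_zero (show Nat.card (GGroup ⧸ ι.range) ≠ 0 from hne)
    exact le_trans (card_points hP hq) (Nat.card_le_card_of_surjective Φ hΦ)
  · rw [← MonoidHom.ker_eq_bot_iff, eq_bot_iff]
    intro q hker
    have hgen : Subgroup.closure {x | ∃ g, g < P.nL ∧ x = P.q g} = ⊤ := by
      rw [hq, hP]; exact letterEl_top HRels HN.tab rfl
    have hk : 0 < P.k := by rw [hP]; exact show 0 < 6 by norm_num
    have hS1 : ∀ s ∈ HNLow.low.stab P 1, P.pt0 s = P.pt0 1 := by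
      intro s hs
      have hs' : s ∈ Submonoid.closure {x | ∃ a, a < HNLow.low.nStab 1 ∧ x = P.el (HNLow.low.stabW 1 a)} := by
        rw [← Subgroup.closure_toSubmonoid_of_finite]; exact hs
      clear hs
      induction hs' using Submonoid.closure_induction_right with
      | one => rfl
      | mul_right a _ b hb ih =>
        obtain ⟨i, hi, rfl⟩ := hb
        rw [QModel.pt0, P.fld_tup_mul _ (V.stab_ok 1 i hn1 hi) a hk]
        change actW P.act (P.pt0 a) _ = _
        rw [ih, QModel.pt0, P.one, hP]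
        exact node1_fix i hi
    have hqi : ∀ b, P.pt0 (b * q⁻¹) = P.pt0 b := by
      intro b
      have h : ρ (ι q) (Low.pt HNLow.low P hn1 b) = Low.pt HNLow.low P hn1 b := by
        rw [MonoidHom.mem_ker.1 hker, map_one]; rfl
      rw [hρ ι hι, Low.rmul_pt, Low.pt_eq] at h
      have h' : b * q⁻¹ * b⁻¹ ∈ HNLow.low.stab P 1 := by
        have := inv_mem h
        simpa [mul_assoc] using this
      have := P.fld_congr hgen hk hk (hS1 _ h') b
      simpa [QModel.pt0, mul_assoc] using this
    have h1 : q⁻¹ = 1 := P.eq_one_of_pt0 hgen (by rw [hP]; exact base_lt) hk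
      (fun l => P.el ([0, 0x40001, 0x2040002, 0x103040003, 0x102040003, 0x20102040004].getD l 0))
      (fun l hl => by
        rw [hP] at hl
        obtain ⟨h1, h2⟩ := base_reach l hl
        rw [← hP] at h1 h2
        rw [QModel.pt0, ← Cover.appP_base h2]
        exact h1) hqi
    simpa using h1

end Cfsg.Agent.HNOrder
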