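import Cfsg.Agent.HNOut.Simple
import Cfsg.Agent.HNOut.Transfer

/-!
`IsHN` from the order of the presented group, the index of `⟨x, y, z⟩` and a model of that subgroup.
-/

set_option autoImplicit false

namespace Cfsg.Agent.HNOrder

open HNMult

/-- In a setup `x` has order dividing four. -/
theorem x_four_of_setup (S : HNOut.Setup) : gen Cfsg.Spor.HN.Gen.x ^ 4 = (1 : Cfsg.Spor.HN) := by
  have hw : S.M.toTab.okWord 0x4 = true := HNOut.okWord_el S _ (by decide +kernel)
  have h := HNOut.x_four
  rw [HNOut.app_el S hw, ← S.tab_eq, ← S.M.one] at h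
  have he : S.M.el 0x4 = S.M.q 0 ^ 4 := by
    rw [DCoset.QModel.el, DCoset.val, show (0x4 : Nat) % 65536 = 4 from rfl, show (0x4 : Nat) / 65536 = 0 from rfl]
    simp [DCoset.valW, pow_succ, mul_assoc]
  have h1 := congrArg Subtype.val (S.M.inj h)
  rw [he, SubmonoidClass.coe_pow, S.q_x] at h1
  exact h1

/-- The group is HN. -/
theorem isHN (S : HNOut.Setup) (hcard : Nat.card Cfsg.Spor.HN = 273030912000000)
    (hindex : (sub3 : Subgroup Cfsg.Spor.HN).index = 1539000) : Cfsg.IsHN Cfsg.Spor.HN := by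
  refine HNOut.isHN S (x_four_of_setup S) hcard ?_
  have h := Subgroup.card_mul_index (sub3 : Subgroup Cfsg.Spor.HN)
  rw [hindex, hcard] at h
  exact Nat.eq_of_mul_eq_mul_right (show 0 < 1539000 by norm_num) (h.trans (by norm_num))

end Cfsg.Agent.HNOrder
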