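import Cfsg.Agent.HNOrder.Upper
import Cfsg.Agent.HNOrder.Simple
import Cfsg.Agent.S1708

/-!
The certificate model as a setup in the presented Harada–Norton group, and the consequences of the exact index of
`⟨x, y, z⟩`.
-/

set_option autoImplicit false
set_option linter.constructorNameAsVariable false

namespace Cfsg.Agent.HNOrder

open HNMult Cfsg.Agent.CosetCert Cfsg.Agent.DCoset

/-- `⟨x, y, z⟩` has order 177408000. -/
theorem card_sub3 : Nat.card ↥(sub3 : Subgroup Cfsg.Spor.HN) = 177408000 := by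
  obtain ⟨K, -, hK2, hKc⟩ :
      ∃ K : Subgroup sub3, K.Normal ∧ K.index = 2 ∧ Cfsg.IsNonsplitDoubleCover K ↥Cfsg.Spor.HS :=
    Cfsg.Agent.S1708.result
  rw [← Subgroup.card_mul_index K, HNOut.card_cover hKc, hK2]

/-- A homomorphism from the model onto `⟨x, y, z⟩`. -/
theorem exists_hom_sub3 : ∃ (e : GGroup ≃* Cfsg.Spor.HN) (ι : HGroup →* GGroup),
    (∀ l, ι (wd HRels l) = wd GRels (l.map fun a => (Fin.castSucc a.1, a.2))) ∧
    (∀ b, e (PresentedGroup.of b) = PresentedGroup.of (gGen b)) ∧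
    (e.toMonoidHom.comp ι).range = sub3 := by
  obtain ⟨e, he⟩ := exists_iso
  obtain ⟨ι, hι⟩ := exists_ginc
  refine ⟨e, ι, hι, he, ?_⟩
  have hgen : ∀ b : Fin 3, e (ι (PresentedGroup.of b)) = PresentedGroup.of (gGen b.castSucc) := fun b => by
    rw [← he, show (PresentedGroup.of b : HGroup) = wd HRels [(b, true)] from rfl, hι]
    rfl
  refine le_antisymm ?_ ?_
  · rw [MonoidHom.range_eq_map, ← PresentedGroup.closure_range_of, MonoidHom.map_closure, Subgroup.closure_le]
    rintro _ ⟨_, ⟨b, rfl⟩, rfl⟩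
    rw [SetLike.mem_coe, MonoidHom.comp_apply]
    show e (ι (PresentedGroup.of b)) ∈ sub3
    rw [hgen]
    exact gen_mem _ (by fin_cases b <;> decide)
  · rw [sub3, Subgroup.map_le_iff_le_comap, Subgroup.closure_le]
    rintro _ (rfl | rfl | rfl)
    exacts [⟨PresentedGroup.of 0, hgen 0⟩, ⟨PresentedGroup.of 1, hgen 1⟩, ⟨PresentedGroup.of 2, hgen 2⟩]

/-- A setup exists. -/
theorem exists_setup : Nonempty HNOut.Setup := by
  obtain ⟨P, hP, hq⟩ := exists_hmodel
  obtain ⟨e, ι, hι, he, hrange⟩ := exists_hom_sub3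
  have := hgroup_card.1
  have hinj : Function.Injective (e.toMonoidHom.comp ι) := by
    have hs : Function.Surjective (e.toMonoidHom.comp ι).rangeRestrict := MonoidHom.rangeRestrict_surjective _
    have hc : Nat.card ↥(e.toMonoidHom.comp ι).range = 177408000 := by rw [hrange]; exact card_sub3
    have hle := hgroup_card.2
    have hge := Nat.card_le_card_of_surjective _ hs
    have hb := ((Nat.bijective_iff_surjective_and_card _).2
      ⟨hs, (by omega : Nat.card HGroup = Nat.card ↥(e.toMonoidHom.comp ι).range)⟩).1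
    intro a b h
    exact hb (Subtype.ext h)
  have hlet : ∀ g, P.q g = wd HRels [(Fin.ofNat 3 (g / 2), Nat.beq (g % 2) 0)] := fun g => by rw [hq]; rfl
  refine ⟨HNOut.Setup.ofHom P (e.toMonoidHom.comp ι) hP hinj hrange ?_ ?_ (gen_model P hP hq) (fun t => e (gT t))
    ?_ ?_⟩
  · show e (ι (P.q 0)) = _
    rw [hlet, hι]
    exact he 0
  · show e (ι (P.q 2)) = _
    rw [hlet, hι]
    exact he 1
  · rw [← Subgroup.map_top_of_surjective e.toMonoidHom e.surjective, ← gen_group ι hι, MonoidHom.map_closure,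
      Set.image_union, ← Set.range_comp]
    congr 2
    ext g
    simp only [Set.mem_setOf_eq, Set.mem_image]
    constructor
    · rintro ⟨t, ht, rfl⟩; exact ⟨gT t, ⟨t, ht, rfl⟩, rfl⟩
    · rintro ⟨_, ⟨t, ht, rfl⟩, rfl⟩; exact ⟨t, ht, rfl⟩
  · have hS := g_sound P hP hq ι hι
    have hlv : ∀ w, val (P.toModel (e.toMonoidHom.comp ι)).lv w = e (val (P.toModel ι).lv w) := fun w => by
      rw [P.el_val, P.el_val]
      rfl
    constructor
    · show e (gT 0) = 1
      rw [hS.T_zero, map_one]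
    · intro τ hτ
      obtain ⟨h1, h2⟩ := hS.inv_eq τ hτ
      exact ⟨h1, by rw [← map_mul, h2, map_one]⟩
    · intro σ τ hσ hτ h
      obtain ⟨h1, h2⟩ := hS.mul_eq σ τ hσ hτ h
      exact ⟨h1, by rw [← map_mul, h2]⟩
    · intro r hr
      obtain ⟨h1, h2, h3, h4, h5⟩ := hS.rule_ok r hr
      exact ⟨h1, h2, h3, h4, by rw [hlv, hlv, ← map_mul, h5, map_mul]⟩
    · intro r hr
      obtain ⟨h1, h2, h3, h4⟩ := hS.rel_ok r hr
      refine ⟨h1, h2, h3, ?_⟩
      rw [hlv, ← h4, map_mul, map_list_prod, List.map_map]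
      congr 2
      refine List.map_congr_left fun m _ => ?_
      simp only [Function.comp_apply, map_mul, hlv]

/-- The order, from the index. -/
theorem card_of_index (h : (sub3 : Subgroup Cfsg.Spor.HN).index = 1539000) :
    Nat.card Cfsg.Spor.HN = 273030912000000 := by
  rw [← Subgroup.card_mul_index (sub3 : Subgroup Cfsg.Spor.HN), card_sub3, h]

/-- HN, from the index. -/
theorem isHN_of_index (h : (sub3 : Subgroup Cfsg.Spor.HN).index = 1539000) : Cfsg.IsHN Cfsg.Spor.HN := by
  obtain ⟨S⟩ := exists_setup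
  exact isHN S (card_of_index h) h

/-- The outer automorphism group, from the index. -/
theorem card_out_of_index (h : (sub3 : Subgroup Cfsg.Spor.HN).index = 1539000) :
    Nat.card (Cfsg.Out Cfsg.Spor.HN) = 2 := by
  obtain ⟨S⟩ := exists_setup
  exact HNOut.card_out_of_setup S (isHN_of_index h) Cfsg.Agent.S1708.result

/-- The index is at most 1539000. -/
theorem index_sub3_le : (sub3 : Subgroup Cfsg.Spor.HN).index ≤ 1539000 := by
  obtain ⟨e, ι, hι, -, hrange⟩ := exists_hom_sub3
  rw [← hrange, MonoidHom.range_comp]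
  refine le_of_eq_of_le (Subgroup.index_map_equiv _ e) ?_
  exact (g_index_le ι hι).2

end Cfsg.Agent.HNOrder
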