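import Cfsg.Agent.HNOrder.HUpper
import Cfsg.Agent.DCoset.HN.Chain

/-!
The group on `x, y, z` as a model on 1408 points.
-/

namespace Cfsg.Agent.HNOrder

open Cfsg.Agent.CosetCert Cfsg.Agent.DCoset

set_option maxRecDepth 100000

/-- The base points. -/
def hBase (l : Nat) : Fin 1408 :=
  if l = 0 then 0 else if l = 1 then 4 else if l = 2 then 6 else if l = 3 then 8 else if l = 4 then 7 else 9

theorem h_letters : allFrom (checkLetters HN.tab 1408) 0 HN.tab.nL = true := by decide +kernel

theorem h_relators : ∀ l ∈ HRels, checkWord HN.tab 1408 (l.map sCode) = true := by decide +kernel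

theorem h_prod : ((List.range HN.tab.k).map HN.qChain.size).prod = 177408000 := by decide +kernel

/-- The model. -/
theorem exists_hmodel : ∃ P : QModel HGroup, P.toTab = HN.tab ∧ P.q = letterEl HRels :=
  exists_model (n := 2) HN.tab 1408 HRels rfl (by norm_num) HN.tab_act_lt hBase (by decide +kernel)
    h_letters h_relators hgroup_card.1 hgroup_card.2 HN.qChain h_prod HN.chain_gen HN.chain_pt

end Cfsg.Agent.HNOrder
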