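import Cfsg.Agent.HNOrder.XModel
import Cfsg.Agent.DCoset.HSX.Cert

/-!
The group on `x, y, z` with the relators of HN not involving `t` has order at most 177408000.
-/

namespace Cfsg.Agent.HNOrder

open Cfsg.Agent.CosetCert Cfsg.Agent.DCoset

set_option maxRecDepth 100000

/-- The relators of HN without `t`, and the fourth power of `x`. -/
def HRels : List (List (Fin 3 × Bool)) := [
    [(1, true), (1, true), (1, true), (1, true), (1, true), (1, true)],
    [(0, true), (0, true), (1, true), (0, true), (0, true), (1, false)],
    [(0, false), (1, false), (0, true), (1, true), (0, false), (1, false), (0, true), (1, true), (0, false), (1, false), (0, true), (1, true)],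
    [(0, false), (1, true), (1, true), (0, true), (1, true), (1, true), (1, true), (0, false), (1, true), (1, true), (0, true), (1, true), (1, true), (1, true), (0, false), (1, true), (1, true), (0, true), (1, true), (1, true), (1, true)],
    [(0, true), (1, true), (0, true), (1, true), (0, true), (1, true), (0, true), (1, true), (0, true), (1, true), (0, true), (1, true), (0, true), (1, true), (0, true), (1, true)],
    [(0, true), (1, true), (0, true), (1, true), (1, true), (1, true), (0, true), (1, true), (0, true), (1, true), (1, true), (1, true), (0, true), (1, true), (0, true), (1, true), (1, true), (1, true), (0, true), (1, true), (0, true), (1, true), (1, true), (1, true)],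
    [(2, true), (2, true)],
    [(2, true), (0, true), (2, true), (0, true)],
    [(2, false), (1, true), (0, false), (1, false), (1, false), (0, false), (1, false), (0, false), (1, false), (2, true), (1, true), (0, true), (1, true), (0, true), (1, true), (1, true), (0, true), (1, false), (0, false), (0, false)],
    [(2, true), (1, false), (0, false), (1, false), (0, false), (1, false), (1, false), (1, false), (2, true), (1, true), (1, true), (1, true), (0, true), (1, true), (0, true), (1, true), (0, true), (1, false), (0, false), (1, false), (0, false), (1, false), (1, false), (1, false), (2, true), (1, true), (1, true), (1, true), (0, true), (1, true), (0, true), (1, true), (0, true), (1, false), (0, false), (1, false), (0, false), (1, false), (1, false), (1, false), (2, true), (1, true), (1, true), (1, true), (0, true), (1, true), (0, true), (1, true), (0, true)],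
    [(0, true), (0, true), (0, true), (0, true)]]

/-- The presented group. -/
abbrev HGroup : Type := PresentedGroup (wordRels HRels)

/-- The third generator as an extra letter. -/
def hTw (t : Nat) : List (Fin 3 × Bool) := if t = 0 then [] else [(2, true)]

/-- The extra letters. -/
def hT (t : Nat) : HGroup := wd HRels (hTw t)

/-- A packed word in `x, y` as a word in three generators. -/
def xw (w : Nat) : List (Fin 3 × Bool) := (unpack 1 w).map fun a => (a.1.castSucc, a.2)

/-- Derivations of the rules. -/
def ruleCert : List (List (List (Fin 3 × Bool) × Nat × Bool)) := [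
    [],
    [],
    [],
    [],
    [([(2, true)], 7, false), ([], 6, true)],
    [([], 7, true), ([(0, false)], 6, false)],
    [([(1, true), (0, true), (1, true), (0, true), (1, true), (1, true), (0, true), (1, false), (2, true)], 8, true)],
    [([(1, true), (0, false), (1, false), (1, false), (0, false), (1, false), (0, false), (1, false), (2, true), (1, true), (0, true), (1, true), (0, true), (1, true), (1, true), (0, true), (1, false), (0, false), (0, false)], 8, false)],
    [],
    []]

/-- Derivations of the relators of the certificate. -/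
def relCert : List (List (List (Fin 3 × Bool) × Nat × Bool)) := [
    [([], 9, true)],
    [([(1, true), (1, true), (1, true), (0, true), (1, true), (0, true), (1, true), (2, false)], 9, true)],
    [([(1, true), (1, true), (1, true), (0, true), (1, true), (0, true), (1, true), (0, false), (1, false), (0, false), (1, false), (0, false), (1, false), (1, false), (1, false), (2, false), (1, true), (1, true), (1, true), (0, true), (1, true), (0, true), (1, true), (2, false)], 9, true)],
    [([(1, true), (1, true), (1, true), (0, true), (1, true), (0, true), (1, true), (0, false), (1, false), (0, false), (1, false), (0, false), (1, false), (1, false), (1, false), (2, false), (1, true), (1, true), (1, true), (0, true), (1, true), (0, true), (1, true), (0, false), (1, false), (0, false), (1, false), (0, false), (1, false), (1, false), (1, false), (2, false), (1, true), (1, true), (1, true), (0, true), (1, true), (0, true), (1, true), (2, false)], 9, true)]]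

theorem rule_check : ∀ r, r < HSX.rules.nRule →
    HSX.rules.rS r < HSX.rules.nT ∧ HSX.rules.rD r < HSX.rules.nT ∧
    HSX.tab.okWord (HSX.rules.rU r) = true ∧ HSX.tab.okWord (HSX.rules.rV r) = true ∧
    FreeGroup.reduce ((hTw (HSX.rules.rS r) ++ xw (HSX.rules.rV r)) ++
      FreeGroup.invRev (xw (HSX.rules.rU r) ++ hTw (HSX.rules.rD r))) =
      FreeGroup.reduce (derivWord HRels (ruleCert.getD r [])) := by decide +kernel

theorem rel_check : ∀ r, r < HSX.rules.nRel →
    HSX.rules.relHd r < HSX.rules.nT ∧ HSX.tab.okWord (HSX.rules.relTl r) = true ∧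
    (∀ m, m < HSX.rules.relLen r →
      HSX.rules.relT r m < HSX.rules.nT ∧ HSX.tab.okWord (HSX.rules.relW r m) = true) ∧
    FreeGroup.reduce ((hTw (HSX.rules.relHd r) ++ (List.range (HSX.rules.relLen r)).flatMap fun m =>
        xw (HSX.rules.relW r m) ++ hTw (HSX.rules.relT r m)) ++
      FreeGroup.invRev (xw (HSX.rules.relTl r))) =
      FreeGroup.reduce (derivWord HRels (relCert.getD r [])) := by decide +kernel

theorem t_check : ∀ s, s < HSX.rules.nT → HSX.rules.invT s < HSX.rules.nT ∧
    FreeGroup.reduce ((hTw s ++ hTw (HSX.rules.invT s)) ++ FreeGroup.invRev []) =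
      FreeGroup.reduce (derivWord HRels (if s = 1 then [([], 6, true)] else [])) := by decide +kernel

theorem mul_check : ∀ s, s < HSX.rules.nT → ∀ t, t < HSX.rules.nT → HSX.rules.mulT s t ≠ 0 →
    HSX.rules.mulT s t - 1 < HSX.rules.nT ∧
    FreeGroup.reduce ((hTw s ++ hTw t) ++ FreeGroup.invRev (hTw (HSX.rules.mulT s t - 1))) =
      FreeGroup.reduce (derivWord HRels (if s = 1 ∧ t = 1 then [([], 6, true)] else [])) := by decide +kernel

theorem sub_rels : ∀ l ∈ XRels, (l.map fun a => (Fin.castSucc a.1, a.2)) ∈ HRels := by decide +kernel

theorem in_words : ∀ s, s < HSX.steps.len → HSX.steps.kind s = 1 → HSX.steps.argW s ∈ yWords := by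
  decide +kernel

/-- The map of the subgroup on `x, y`. -/
theorem exists_inc : ∃ ι : XGroup →* HGroup, ∀ l,
    ι (wd XRels l) = wd HRels (l.map fun a => (Fin.castSucc a.1, a.2)) :=
  exists_rename XRels HRels Fin.castSucc fun l hl => wd_rel HRels (sub_rels l hl)

/-- The rules hold in the presented group. -/
theorem hs_sound (P : QModel XGroup) (hP : P.toTab = HSX.tab) (hq : P.q = letterEl XRels)
    (ι : XGroup →* HGroup)
    (hι : ∀ l, ι (wd XRels l) = wd HRels (l.map fun a => (Fin.castSucc a.1, a.2))) :
    HSX.rules.Sound (P.toModel ι) hT := by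
  have hv : ∀ w, val (P.toModel ι).lv w = wd HRels (xw w) := fun w => by
    rw [P.el_val, QModel.el, hq, val_letterEl, hι]
    rfl
  have hok : ∀ w, HSX.tab.okWord w = true → (P.toModel ι).toTab.okWord w = true := fun w hw => by
    show P.toTab.okWord w = true
    rw [hP]
    exact hw
  constructor
  · exact wd_nil HRels
  · intro s hs
    refine ⟨(t_check s hs).1, ?_⟩
    rw [hT, hT, ← wd_append, ← wd_nil HRels]
    exact wd_eq_of_deriv HRels _ (t_check s hs).2
  · intro s t hs ht h
    refine ⟨(mul_check s hs t ht h).1, ?_⟩
    rw [hT, hT, hT, ← wd_append]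
    exact wd_eq_of_deriv HRels _ (mul_check s hs t ht h).2
  · intro r hr
    obtain ⟨h1, h2, h3, h4, h5⟩ := rule_check r hr
    refine ⟨h1, h2, hok _ h3, hok _ h4, ?_⟩
    rw [hv, hv, hT, hT, ← wd_append, ← wd_append]
    exact wd_eq_of_deriv HRels _ h5
  · intro r hr
    obtain ⟨h1, h2, h3, h4⟩ := rel_check r hr
    refine ⟨h1, hok _ h2, fun m hm => ⟨(h3 m hm).1, hok _ (h3 m hm).2⟩, ?_⟩
    simp only [hv, hT, ← wd_append, ← wd_flatMap]
    exact wd_eq_of_deriv HRels _ h4

/-- The order bound. -/
theorem hgroup_card : Finite HGroup ∧ Nat.card HGroup ≤ 177408000 := by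
  obtain ⟨P, hP, hq⟩ := exists_xmodel
  obtain ⟨ι, hι⟩ := exists_inc
  have := xgroup_card.1
  have hL := hs_sound P hP hq ι hι
  have hgenQ : Subgroup.closure {x | ∃ g, g < P.nL ∧ x = P.q g} = ⊤ := by
    rw [hq, hP]
    exact letterEl_top XRels HSX.tab rfl
  have hgenG : Subgroup.closure (Set.range ι ∪ {x | ∃ t, t < HSX.rules.nT ∧ x = hT t}) = ⊤ := by
    rw [eq_top_iff, ← PresentedGroup.closure_range_of (wordRels HRels), Subgroup.closure_le]
    rintro _ ⟨b, rfl⟩
    fin_cases b
    · exact Subgroup.subset_closure (Or.inl ⟨wd XRels [(0, true)], hι _⟩)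
    · exact Subgroup.subset_closure (Or.inl ⟨wd XRels [(1, true)], hι _⟩)
    · exact Subgroup.subset_closure (Or.inr ⟨1, Nat.one_lt_two, rfl⟩)
  have hF : ∀ s, s < HSX.steps.len →
      HSX.steps.Holds HSX.rules (P.toModel ι) (ySub.map ι) hT s := by
    refine Steps.holds_of_in hL (fun s hs hk => ?_) HSX.node_src Nat.two_pos ?_
    · rw [P.el_val]
      refine Subgroup.mem_map_of_mem ι (Subgroup.subset_closure ⟨_, in_words s hs hk, ?_⟩)
      rw [QModel.el, hq]
    · intro s hs
      show Steps.check _ _ P.toTab s = true
      rw [hP]
      exact HSX.steps_ok s hs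
  obtain ⟨hne, hle⟩ := Cover.index_le_sub ι hT (ySub.map ι) xgroup_card.2 hgenQ hgenG hL
    (by rw [hP]; exact HSX.valid) hF
  rw [HSX.idx_sum] at hle
  have hle1 : Nat.card (ySub.map ι) ≤ 1000 :=
    (Nat.card_le_card_of_surjective _ (ι.subgroupMap_surjective ySub)).trans ySub_card
  have : Finite (ySub.map ι) := Finite.of_surjective _ (ι.subgroupMap_surjective ySub)
  have hpos : 0 < Nat.card (ySub.map ι) := Nat.card_pos
  have hmul := (ySub.map ι).card_mul_index
  refine ⟨(Nat.card_ne_zero.1 (by rw [← hmul]; exact Nat.mul_ne_zero (by omega) hne)).2, ?_⟩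
  rw [← hmul]
  exact le_trans (Nat.mul_le_mul hle1 hle) (by norm_num)

end Cfsg.Agent.HNOrder
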