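import Cfsg.Agent.HNOrder.HModel
import Cfsg.Agent.DCoset.Fields
import Cfsg.Agent.DCoset.HNLow.CheckBasic
import Cfsg.Agent.DCoset.HNLow.CheckImages
import Cfsg.Agent.DCoset.HNLow.CheckSch0
import Cfsg.Agent.DCoset.HNLow.CheckSch1
import Cfsg.Agent.DCoset.HNLow.CheckSch2
import Cfsg.Agent.DCoset.HNLow.CheckRel0
import Cfsg.Agent.DCoset.HNLow.CheckRel1
import Cfsg.Agent.DCoset.HNLow.CheckRel2
import Cfsg.Agent.DCoset.HNLow.CheckRel3
import Cfsg.Agent.DCoset.HNLow.CheckRel4
import Cfsg.Agent.DCoset.HNLow.CheckRel5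
import Cfsg.Agent.DCoset.HNLow.CheckRel6

/-!
The tables of the action of the Harada–Norton group are valid.
-/

namespace Cfsg.Agent.HNOrder

open Cfsg.Agent.CosetCert Cfsg.Agent.DCoset

set_option maxRecDepth 100000

/-- The factor on exponents of `t` of a point of the block. -/
def mP (p : Nat) : Nat := if p = 0 then 1 else if p = 2 then 2 else if p = 3 then 4 else 3

/-- The permutation of the powers of `t` by an element. -/
noncomputable def hPi (P : QModel HGroup) (u : HGroup) (t : Nat) : Nat :=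
  if t < 5 then (mP (P.pt0 u) * t) % 5 else t

theorem hPi_lt (P : QModel HGroup) (u : HGroup) {t : Nat} (ht : t < 5) :
    hPi P u t = (mP (P.pt0 u) * t) % 5 := if_pos ht

theorem gen_table : ∀ g, g < 4 → ∀ p, p < 4 →
    HN.tab.act g p < 4 ∧ mP (HN.tab.act g p) % 5 = mP p * mP (HN.tab.act g 0) % 5 := by decide +kernel

theorem piLet_table : ∀ g, g < 4 → ∀ t, t < 5 →
    HNLow.low.piLet g t = (mP (HN.tab.act g (fld HN.tab.base 0)) * t) % 5 := by decide +kernel

variable {P : QModel HGroup} (hP : P.toTab = HN.tab)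
include hP

theorem pt0_one : P.pt0 1 = 0 := by
  rw [QModel.pt0, P.one, hP]
  decide +kernel

theorem pt0_step (a : HGroup) {g : Nat} (hg : g < 4) :
    P.pt0 (a * P.q g) = HN.tab.act g (P.pt0 a) := by
  have hnL : g < P.nL := by rw [hP]; exact lt_trans hg (show 4 < 6 by norm_num)
  have hk : 0 < P.k := by rw [hP]; exact show 0 < 6 by norm_num
  rw [QModel.pt0, P.step _ g hnL, QModel.fld_mapTup _ (P.act_lt g) _ _ _ hk, hP]
  rfl

theorem blockU {v : HGroup} (hv : v ∈ HNLow.low.grpU P) :
    ∀ a, P.pt0 a < 4 → P.pt0 (a * v) < 4 ∧ mP (P.pt0 (a * v)) % 5 = mP (P.pt0 a) * mP (P.pt0 v) % 5 := by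
  have := hgroup_card.1
  have hv' : v ∈ Submonoid.closure {x | ∃ g, g < HNLow.low.nU ∧ x = P.q g} := by
    rw [← Subgroup.closure_toSubmonoid_of_finite]; exact hv
  clear hv
  induction hv' using Submonoid.closure_induction with
  | mem x hx =>
    obtain ⟨g, hg, rfl⟩ := hx
    intro a ha
    have h1 := pt0_step hP 1 (show g < 4 from hg)
    rw [one_mul, pt0_one hP] at h1
    rw [pt0_step hP a (show g < 4 from hg), h1]
    exact gen_table g hg _ ha
  | one => intro a ha; simp [ha, pt0_one hP, mP]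
  | mul x y _ _ ihx ihy =>
    intro a ha
    obtain ⟨a1, a2⟩ := ihx a ha
    obtain ⟨b1, b2⟩ := ihy (a * x) a1
    obtain ⟨x1, -⟩ := ihx 1 (by rw [pt0_one hP]; norm_num)
    rw [one_mul] at x1
    obtain ⟨-, c2⟩ := ihy x x1
    rw [← mul_assoc]
    refine ⟨b1, ?_⟩
    rw [b2, Nat.mul_mod, a2, ← Nat.mul_mod, Nat.mul_mod (mP (P.pt0 a)) (mP (P.pt0 (x * y))), c2,
      ← Nat.mul_mod, mul_assoc]

variable (hq : P.q = letterEl HRels)
include hq

theorem low_valid : HNLow.low.Valid P (hPi P) where
  hk := by rw [hP]; exact show 0 < 6 by norm_num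
  hnU := by rw [hP]; exact show 4 ≤ 6 by norm_num
  gens := by rw [hq, hP]; exact letterEl_top HRels HN.tab rfl
  ep_zero := ⟨show 0 < 352 by norm_num, by decide +kernel⟩
  ep_ok c hc := by rw [hP]; exact allFrom_all HNLow.ep_all hc
  stab_ok m a hm ha := by rw [hP]; exact allFrom_all (allFrom_all HNLow.stab_all hm : _) ha
  left_ok g c hg hc := by
    rw [hP] at hg ⊢
    exact allFrom_all (allFrom_all HNLow.left_all hg : _) hc
  loc_ok m c hm hc := by rw [hP]; exact allFrom_all (allFrom_all HNLow.loc_all hm : _) hc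
  root_ok j hj := by rw [hP]; exact allFrom_all HNLow.root_all hj
  w_ok j b hj hb := by rw [hP]; exact allFrom_all (allFrom_all HNLow.w_all hj : _) hb
  sch_ok m c a hm hc ha := by
    rw [hP]
    change m < 9 at hm
    interval_cases m
    · exact allFrom_all (allFrom_all HNLow.sch_0 hc : _) ha
    · exact allFrom_all (allFrom_all HNLow.sch_1 hc : _) ha
    · exact allFrom_all (allFrom_all HNLow.sch_2 hc : _) ha
    · exact allFrom_all (allFrom_all HNLow.sch_3 hc : _) ha
    · exact allFrom_all (allFrom_all HNLow.sch_4 hc : _) ha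
    · exact allFrom_all (allFrom_all HNLow.sch_5 hc : _) ha
    · exact allFrom_all (allFrom_all HNLow.sch_6 hc : _) ha
    · exact allFrom_all (allFrom_all HNLow.sch_7 hc : _) ha
    · exact allFrom_all (allFrom_all HNLow.sch_8 hc : _) ha
  sep_ok c hc := by rw [hP]; exact allFrom_all HNLow.sep_all hc
  block g hg p hp := by
    change Nat.blt p 4 = true at hp
    rw [hP]
    exact Nat.ble_eq.mpr (gen_table g hg p (Nat.ble_eq.mp hp)).1
  pi_one t := by
    unfold hPi
    split_ifs with h
    · rw [pt0_one hP, show mP 0 = 1 from rfl, one_mul, Nat.mod_eq_of_lt h]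
    · rfl
  pi_mul u v hu hv t ht := by
    have h1 := (blockU hP hu 1 (by rw [pt0_one hP]; norm_num)).1
    rw [one_mul] at h1
    have h2 := (blockU hP hv u h1).2
    have ht : t < 5 := ht
    rw [hPi_lt P _ ht, hPi_lt P v ht, hPi_lt P u (Nat.mod_lt _ (by norm_num))]
    rw [Nat.mul_mod, h2, ← Nat.mul_mod, Nat.mul_mod_mod, mul_assoc]
  pi_let g hg t ht := by
    have h1 := pt0_step hP 1 (show g < 4 from hg)
    rw [one_mul, pt0_one hP] at h1
    rw [hPi_lt P _ (show t < 5 from ht)]
    rw [h1, piLet_table g hg t ht, show fld HN.tab.base 0 = 0 by decide +kernel]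
  pi_lt u _ t ht := by
    rw [hPi_lt P _ (show t < 5 from ht)]
    exact Nat.mod_lt _ (show 5 > 0 by norm_num)
  pi_add u _ s t _ _ := by
    rename_i hs ht
    show (hPi P u s + hPi P u t) % 5 = hPi P u ((s + t) % 5)
    rw [hPi_lt P _ (show s < 5 from hs), hPi_lt P _ (show t < 5 from ht),
      hPi_lt P _ (Nat.mod_lt _ (by norm_num))]
    rw [← Nat.add_mod, Nat.mul_mod_mod, Nat.mul_add]
  pi_zero u _ := by rw [hPi_lt P _ (show 0 < 5 by norm_num)]; simp
  nT_pos := show 0 < 5 by norm_num
  img_ok j t hj ht := by rw [hP]; exact allFrom_all (allFrom_all HNLow.img_all hj : _) ht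
  compat_ok j b t hj hb ht := by
    rw [hP]
    exact allFrom_all (allFrom_all (allFrom_all HNLow.compat_all hj : _) hb : _) ht
  mul_ok j s t hj hs ht := by
    rw [hP]
    exact allFrom_all (allFrom_all (allFrom_all HNLow.mul_all hj : _) hs : _) ht
  zero_ok j hj := by rw [hP]; exact allFrom_all HNLow.zero_all hj

omit hq in
theorem rel_valid : HNLow.low.RelValid HNLow.lrel P.toTab where
  zok := by rw [hP]; decide +kernel
  tlt := show 1 < 5 by norm_num
  d_zero := ⟨show 0 < 200 by norm_num, by decide +kernel⟩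
  d_ok e he := allFrom_all HNLow.d_all he
  c_ok i hi := by rw [hP]; exact allFrom_all HNLow.c_all hi
  dd_ok g e hg he := by rw [hP]; exact allFrom_all (allFrom_all HNLow.dd_all hg : _) he
  rel_ok j e hj he := by
    rw [hP]
    change j < 33 at hj
    interval_cases j
    · exact allFrom_all HNLow.rel_0 he
    · exact allFrom_all HNLow.rel_1 he
    · exact allFrom_all HNLow.rel_2 he
    · exact allFrom_all HNLow.rel_3 he
    · exact allFrom_all HNLow.rel_4 he
    · exact allFrom_all HNLow.rel_5 he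
    · exact allFrom_all HNLow.rel_6 he
    · exact allFrom_all HNLow.rel_7 he
    · exact allFrom_all HNLow.rel_8 he
    · exact allFrom_all HNLow.rel_9 he
    · exact allFrom_all HNLow.rel_10 he
    · exact allFrom_all HNLow.rel_11 he
    · exact allFrom_all HNLow.rel_12 he
    · exact allFrom_all HNLow.rel_13 he
    · exact allFrom_all HNLow.rel_14 he
    · exact allFrom_all HNLow.rel_15 he
    · exact allFrom_all HNLow.rel_16 he
    · exact allFrom_all HNLow.rel_17 he
    · exact allFrom_all HNLow.rel_18 he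
    · exact allFrom_all HNLow.rel_19 he
    · exact allFrom_all HNLow.rel_20 he
    · exact allFrom_all HNLow.rel_21 he
    · exact allFrom_all HNLow.rel_22 he
    · exact allFrom_all HNLow.rel_23 he
    · exact allFrom_all HNLow.rel_24 he
    · exact allFrom_all HNLow.rel_25 he
    · exact allFrom_all HNLow.rel_26 he
    · exact allFrom_all HNLow.rel_27 he
    · exact allFrom_all HNLow.rel_28 he
    · exact allFrom_all HNLow.rel_29 he
    · exact allFrom_all HNLow.rel_30 he
    · exact allFrom_all HNLow.rel_31 he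
    · exact allFrom_all HNLow.rel_32 he

end Cfsg.Agent.HNOrder
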