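import Cfsg.Agent.CosetCert.HNXFive.Main
import Cfsg.Agent.CosetCert.HNK120.Main
import Cfsg.Agent.CosetCert.HNX12600.Main

/-!
The group on `x, y` with the relators of 2·HS:2 in `x, y` and `x⁴` has order at most 1512000:
a double cover of A₅ has index at most 12600.
-/

namespace Cfsg.Agent.HNOrder

open Cfsg.Agent.CosetCert

set_option maxRecDepth 100000

/-- The relators. -/
abbrev XRels : List (List (Fin 2 × Bool)) := HNX12600.relWords

/-- The presented group. -/
abbrev XGroup : Type := PresentedGroup (wordRels XRels)

theorem five_rels : HNXFive.relWords = XRels := by decide +kernel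

/-- A relator word is one. -/
theorem wordRels_one {n : Nat} (RL : List (List (Fin n × Bool))) {l : List (Fin n × Bool)}
    (hl : l ∈ RL) : PresentedGroup.mk (wordRels RL) (FreeGroup.mk l) = 1 :=
  PresentedGroup.one_of_mem (List.mem_map_of_mem hl)

theorem sub_nil_eq {β : Type*} [DecidableEq β] (rels : Set (FreeGroup β)) :
    Data.sub rels [] = ⊥ := by
  simp [Data.sub]

/-- A signed word as a product. -/
theorem mk_signed {n : Nat} (RL : List (List (Fin n × Bool))) (l : List (Fin n × Bool)) :
    PresentedGroup.mk (wordRels RL) (FreeGroup.mk l) =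
      (l.map fun a => cond a.2 (PresentedGroup.of a.1 : PresentedGroup (wordRels RL))
        (PresentedGroup.of a.1)⁻¹).prod := by
  induction l with
  | nil => exact map_one _
  | cons a t ih =>
    rw [show FreeGroup.mk (a :: t) = FreeGroup.mk [a] * FreeGroup.mk t by
      rw [FreeGroup.mul_mk]; rfl, map_mul, ih, List.map_cons, List.prod_cons]
    obtain ⟨b, _ | _⟩ := a
    · rw [show FreeGroup.mk [(b, false)] = (FreeGroup.of b)⁻¹ from rfl, map_inv]; rfl
    · rfl

/-- The order of the presented group is at most 1512000. -/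
theorem xgroup_card : Finite XGroup ∧ Nat.card XGroup ≤ 1512000 := by
  let x : XGroup := PresentedGroup.of 0
  let y : XGroup := PresentedGroup.of 1
  have rel : ∀ l : List (Fin 2 × Bool), l ∈ XRels →
      (l.map fun a => cond a.2 (PresentedGroup.of a.1 : XGroup) (PresentedGroup.of a.1)⁻¹).prod = 1 :=
    fun l hl => (mk_signed XRels l).symm.trans (wordRels_one XRels hl)
  have hy6 : y ^ 6 = 1 := by
    have h := rel [(1, true), (1, true), (1, true), (1, true), (1, true), (1, true)] (by decide +kernel)
    simpa [pow_succ, mul_assoc, y] using h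
  have hx4 : x ^ 4 = 1 := by
    have h := rel [(0, true), (0, true), (0, true), (0, true)] (by decide +kernel)
    simpa [pow_succ, mul_assoc, x] using h
  have hconj : x * x * y * (x * x) * y⁻¹ = 1 := by
    have h := rel [(0, true), (0, true), (1, true), (0, true), (0, true), (1, false)] (by decide +kernel)
    simpa [mul_assoc, x, y] using h
  set c := x * x with hc
  have hc2 : c * c = 1 := by
    rw [← hx4, hc]
    simp only [pow_succ, pow_zero, one_mul, mul_assoc]
  have hci : c⁻¹ = c := inv_eq_of_mul_eq_one_right hc2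
  have hcy : Commute c y := by
    have h1 : c * y * c = y := by
      have := mul_inv_eq_one.1 hconj
      exact this
    show c * y = y * c
    calc c * y = c * y * c * c⁻¹ := by group
      _ = y * c := by rw [h1, hci]
  have hcx : Commute c x := by show x * x * x = x * (x * x); group
  set g := x⁻¹ * y⁻¹ * x * y⁻¹ * y⁻¹ * y⁻¹ with hg
  set a := y * y * y with ha
  set b := g * (x * (y * y) * x⁻¹) * g⁻¹ with hb
  have hcg : Commute c g := by
    rw [hg]
    exact (((((hcx.inv_right).mul_right hcy.inv_right).mul_right hcx).mul_right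
      hcy.inv_right).mul_right hcy.inv_right).mul_right hcy.inv_right
  have hcb : Commute c b := by
    rw [hb]
    exact ((hcg.mul_right ((hcx.mul_right (hcy.mul_right hcy)).mul_right hcx.inv_right)).mul_right
      hcg.inv_right)
  have hca : Commute c a := (hcy.mul_right hcy).mul_right hcy
  have hword : x⁻¹ * y⁻¹ * x * y⁻¹ * y⁻¹ * y⁻¹ * x * y * y * x * y * y * y * x⁻¹ * y * x = b * c := by
    rw [hb, mul_assoc (g * (x * (y * y) * x⁻¹)), ← hcg.inv_right.eq, hc, hg]
    simp only [mul_assoc, mul_inv_rev, inv_inv, inv_mul_cancel_left]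
  have ha2 : a * a = 1 := by
    rw [← hy6, ha]
    simp only [pow_succ, pow_zero, one_mul, mul_assoc]
  have hb3 : b * b * b = 1 := by
    have : b * b * b = g * (x * y ^ 6 * x⁻¹) * g⁻¹ := by
      rw [hb]
      simp only [pow_succ, pow_zero, one_mul, mul_assoc, inv_mul_cancel_left]
    rw [this, hy6]; group
  have hfive : (a * b) ^ 5 = 1 := by
    have h0 : PresentedGroup.mk (wordRels XRels) (FreeGroup.mk HNXFive.target) = 1 := by
      have h := HNXFive.target_mem
      rw [show HNXFive.subGens = [] from rfl, sub_nil_eq, Subgroup.mem_bot] at h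
      rw [← five_rels]
      exact h
    rw [mk_signed] at h0
    have h1 : (a * (b * c)) ^ 5 * c = 1 := by
      rw [← hword, ← h0, ha, hc]
      simp [HNXFive.target, pow_succ, mul_assoc, x, y]
    have h6 : c ^ 5 * c = 1 := by
      rw [← pow_succ, show (5 + 1 : ℕ) = 2 * 3 from rfl, pow_mul, sq, hc2, one_pow]
    rw [← mul_assoc a b c, ((hca.mul_right hcb).symm).mul_pow 5, mul_assoc ((a * b) ^ 5), h6,
      mul_one] at h1
    exact h1
  -- the double cover of A₅
  have hrK : ∀ r ∈ wordRels HNK120.relWords, FreeGroup.lift ![a, b, c] r = 1 := by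
    intro r hr
    obtain ⟨l, hl, rfl⟩ := List.mem_map.1 hr
    rw [FreeGroup.lift_mk]
    simp only [HNK120.relWords, List.mem_cons, List.not_mem_nil, or_false] at hl
    rcases hl with rfl | rfl | rfl | rfl | rfl | rfl
    · simpa using ha2
    · simpa [mul_assoc] using hb3
    · simpa [pow_succ, mul_assoc] using hfive
    · simpa using hc2
    · have := hca.symm.eq
      simp only [List.map_cons, List.map_nil, List.prod_cons, List.prod_nil]
      show a * (c * (a * (c⁻¹ * 1))) = 1
      rw [hci, mul_one, ← mul_assoc, ← mul_assoc, this, mul_assoc c, ha2, mul_one, hc2]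
    · have := hcb.symm.eq
      simp only [List.map_cons, List.map_nil, List.prod_cons, List.prod_nil]
      show b * (c * (b⁻¹ * (c⁻¹ * 1))) = 1
      rw [← mul_assoc, this]
      group
  let ψ := PresentedGroup.toGroup hrK
  obtain ⟨hK0, hKle⟩ := HNK120.index_bound
  rw [show HNK120.subGens = [] from rfl, sub_nil_eq, Subgroup.index_bot] at hK0 hKle
  have hKfin : Finite (PresentedGroup (wordRels HNK120.relWords)) := (Nat.card_ne_zero.1 hK0).2
  have hmem : ∀ i, ![a, b, c] i ∈ ψ.range := fun i => ⟨PresentedGroup.of i, PresentedGroup.toGroup.of hrK⟩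
  have hS : Data.sub (wordRels XRels) HNX12600.subGens ≤ ψ.range := by
    rw [Data.sub, MonoidHom.map_closure, Subgroup.closure_le]
    rintro _ ⟨w, hw, rfl⟩
    simp only [HNX12600.subGens, List.mem_cons, List.not_mem_nil, or_false, Set.mem_ofPred_eq] at hw
    rcases hw with rfl | rfl | rfl <;> rw [SetLike.mem_coe, mk_signed]
    · simpa [mul_assoc, ha, x, y] using hmem 0
    · have := ψ.range.mul_mem (hmem 1) (hmem 2)
      simp only [Matrix.cons_val_one, Matrix.cons_val] at this
      rw [← hword] at this
      simpa [mul_assoc, x, y] using this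
    · simpa [mul_assoc, hc, x, y] using hmem 2
  obtain ⟨hne, hle⟩ := HNX12600.index_bound
  have hcardψ : Nat.card ψ.range ≤ 120 :=
    (Nat.card_le_card_of_surjective _ ψ.rangeRestrict_surjective).trans hKle
  have : Finite ψ.range := Finite.of_surjective _ ψ.rangeRestrict_surjective
  have hcardS : Nat.card (Data.sub (wordRels XRels) HNX12600.subGens) ≤ 120 :=
    (Nat.card_le_card_of_injective _ (Subgroup.inclusion_injective hS)).trans hcardψ
  have : Finite (Data.sub (wordRels XRels) HNX12600.subGens) :=
    Finite.of_injective _ (Subgroup.inclusion_injective hS)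
  have hpos : 0 < Nat.card (Data.sub (wordRels XRels) HNX12600.subGens) := Nat.card_pos
  have hmul := (Data.sub (wordRels XRels) HNX12600.subGens).card_mul_index
  refine ⟨(Nat.card_ne_zero.1 (by rw [← hmul]; exact Nat.mul_ne_zero (by omega) hne)).2, ?_⟩
  rw [← hmul]
  exact le_trans (Nat.mul_le_mul hcardS hle) (by norm_num)

end Cfsg.Agent.HNOrder
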