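import Cfsg.Agent.DCoset.Emit
import Cfsg.Agent.DCoset.PermModel
import Cfsg.Agent.CosetCert.Chain

/-!
A presented group acting through a table of letters: letter `2b` is a generator, `2b + 1` its inverse.
-/

namespace Cfsg.Agent.HNOrder

open Cfsg.Agent.CosetCert Cfsg.Agent.DCoset

variable {n : Nat}

/-- The code of a signed generator. -/
def sCode (a : Fin n × Bool) : Nat := 2 * a.1.val + (if a.2 then 0 else 1)

/-- The inverse letter. -/
def flipLetter (g : Nat) : Nat := if g % 2 = 0 then g + 1 else g - 1

/-- The letters permute the points and the flipped letter undoes a letter. -/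
noncomputable def checkLetters (M : Tab) (N : Nat) (g : Nat) : Bool :=
  allFrom (fun p => force (M.act g p) fun q => gate (Nat.blt q N) (Nat.beq (M.act (flipLetter g) q) p)) 0 N

/-- A word returns every point. -/
noncomputable def checkWord (M : Tab) (N : Nat) (w : List Nat) : Bool :=
  allFrom (fun p => Nat.beq (List.rec (fun p => p) (fun x _ ih p => force (M.act x p) ih) w p) p) 0 N

theorem checkWord_spec {M : Tab} {N : Nat} {w : List Nat} (h : checkWord M N w = true) {p : Nat}
    (hp : p < N) : w.foldl (fun p x => M.act x p) p = p := by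
  have h := Nat.eq_of_beq_eq_true ((allFrom_iff _ _ _).1 h p (Nat.zero_le _) (by omega))
  have e : ∀ (w : List Nat) p, List.rec (motive := fun _ => Nat → Nat) (fun p => p)
      (fun x _ ih p => force (M.act x p) ih) w p = w.foldl (fun p x => M.act x p) p := by
    intro w
    induction w with
    | nil => intro p; rfl
    | cons x t ih =>
      intro p
      rw [List.foldl_cons, ← ih]
      show force (M.act x p) _ = _
      rw [force_eq]
  rwa [e] at h

/-- A table respecting the relators gives an action. -/
theorem exists_perm (M : Tab) (N : Nat) (RL : List (List (Fin n × Bool))) (hnL : M.nL = 2 * n)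
    (hlet : allFrom (checkLetters M N) 0 M.nL = true)
    (hrel : ∀ l ∈ RL, checkWord M N (l.map sCode) = true) :
    ∃ ρ : PresentedGroup (wordRels RL) →* Equiv.Perm (Fin N),
      ∀ (a : Fin n × Bool) (p : Fin N),
        M.act (sCode a) p.val = ((ρ (PresentedGroup.mk _ (FreeGroup.mk [a])))⁻¹ p).val := by
  have hflip : ∀ g, g < M.nL → flipLetter g < M.nL ∧ flipLetter (flipLetter g) = g := by
    intro g hg
    unfold flipLetter
    split_ifs <;> omega
  have hl : ∀ g, g < M.nL → ∀ p, p < N → M.act g p < N ∧ M.act (flipLetter g) (M.act g p) = p := by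
    intro g hg p hp
    have h := (allFrom_iff _ _ _).1 ((allFrom_iff _ _ _).1 hlet g (Nat.zero_le _) (by omega)) p
      (Nat.zero_le _) (by omega)
    simp only [force_eq, gate_eq, Bool.and_eq_true] at h
    exact ⟨Nat.ble_eq.mp h.1, Nat.eq_of_beq_eq_true h.2⟩
  have hlt : ∀ a : Fin n × Bool, sCode a < M.nL := by
    rintro ⟨b, _ | _⟩ <;> simp only [sCode] <;> have := b.isLt <;> simp <;> omega
  let e : Fin n → Equiv.Perm (Fin N) := fun b =>
    { toFun := fun p => ⟨M.act (2 * b.val) p.val, (hl _ (by omega) _ p.isLt).1⟩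
      invFun := fun p => ⟨M.act (2 * b.val + 1) p.val, (hl _ (by omega) _ p.isLt).1⟩
      left_inv := fun p => Fin.ext (by
        have := (hl (2 * b.val) (by omega) _ p.isLt).2
        rwa [flipLetter, if_pos (by omega)] at this)
      right_inv := fun p => Fin.ext (by
        have := (hl (2 * b.val + 1) (by omega) _ p.isLt).2
        rwa [flipLetter, if_neg (by omega), Nat.add_sub_cancel] at this) }
  let f : Fin n → Equiv.Perm (Fin N) := fun b => (e b)⁻¹
  have hlift : ∀ (l : List (Fin n × Bool)) (p : Fin N),
      (((FreeGroup.lift f (FreeGroup.mk l))⁻¹ p : Fin N) : Nat) =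
        (l.map sCode).foldl (fun p x => M.act x p) p.val := by
    intro l
    induction l with
    | nil =>
      intro p
      rw [show FreeGroup.mk ([] : List (Fin n × Bool)) = 1 from rfl, map_one]
      simp
    | cons a t ih =>
      intro p
      rw [show FreeGroup.mk (a :: t) = FreeGroup.mk [a] * FreeGroup.mk t by
        rw [FreeGroup.mul_mk]; rfl, map_mul, mul_inv_rev, Equiv.Perm.mul_apply, ih,
        List.map_cons, List.foldl_cons]
      congr 1
      obtain ⟨b, _ | _⟩ := a
      · rw [show FreeGroup.mk [(b, false)] = (FreeGroup.of b)⁻¹ from rfl, map_inv,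
          FreeGroup.lift_apply_of, inv_inv]
        rfl
      · rw [show FreeGroup.mk [(b, true)] = FreeGroup.of b from rfl, FreeGroup.lift_apply_of]
        show ((((e b)⁻¹)⁻¹ p : Fin N) : Nat) = _
        rw [inv_inv]
        rfl
  have hr : ∀ r ∈ wordRels RL, FreeGroup.lift f r = 1 := by
    intro r hr
    obtain ⟨l, hl', rfl⟩ := List.mem_map.1 hr
    refine inv_eq_one.1 (Equiv.ext fun p => Fin.ext ?_)
    rw [hlift, Equiv.Perm.one_apply]
    exact checkWord_spec (hrel l hl') p.isLt
  refine ⟨PresentedGroup.toGroup hr, fun a p => ?_⟩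
  have : (PresentedGroup.toGroup hr).comp (PresentedGroup.mk (wordRels RL)) = FreeGroup.lift f :=
    FreeGroup.ext_hom _ _ fun b => by
      simp only [MonoidHom.comp_apply, FreeGroup.lift_apply_of]
      exact PresentedGroup.toGroup.of hr
  rw [show (PresentedGroup.toGroup hr) (PresentedGroup.mk _ (FreeGroup.mk [a])) =
    FreeGroup.lift f (FreeGroup.mk [a]) from DFunLike.congr_fun this (FreeGroup.mk [a]), hlift]
  rfl

/-- The letters as elements of the presented group. -/
def letterEl (RL : List (List (Fin (n + 1) × Bool))) (g : Nat) : PresentedGroup (wordRels RL) :=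
  PresentedGroup.mk _ (FreeGroup.mk [(Fin.ofNat (n + 1) (g / 2), Nat.beq (g % 2) 0)])

theorem sCode_letter {g : Nat} (hg : g < 2 * (n + 1)) :
    sCode ((Fin.ofNat (n + 1) (g / 2), Nat.beq (g % 2) 0) : Fin (n + 1) × Bool) = g := by
  have h : g / 2 < n + 1 := by omega
  simp only [sCode, Fin.val_ofNat, Nat.mod_eq_of_lt h]
  rcases Nat.mod_two_eq_zero_or_one g with e | e <;> simp [e] <;> omega

/-- The letters generate. -/
theorem letterEl_top (RL : List (List (Fin (n + 1) × Bool))) (M : Tab) (hnL : M.nL = 2 * (n + 1)) :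
    Subgroup.closure {x | ∃ g, g < M.nL ∧ x = letterEl RL g} = ⊤ := by
  rw [eq_top_iff, ← PresentedGroup.closure_range_of, Subgroup.closure_le]
  rintro _ ⟨b, rfl⟩
  refine Subgroup.subset_closure ⟨2 * b.val, by omega, ?_⟩
  have hb : Fin.ofNat (n + 1) (2 * b.val / 2) = b :=
    Fin.ext (by simp [Nat.mod_eq_of_lt b.isLt])
  rw [letterEl, hb, show Nat.beq (2 * b.val % 2) 0 = true by simp]
  rfl

/-- A presented group of order at most `NQ`, seen faithfully on a base of points, is a model. -/
theorem exists_model (M : Tab) (N : Nat) (RL : List (List (Fin (n + 1) × Bool)))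
    (hnL : M.nL = 2 * (n + 1)) (hN : N ≤ 65536) (hlt : ∀ g p, M.act g p < 65536)
    (bp : Nat → Fin N) (hbase : M.base = pk16 M.k fun l => (bp l).val)
    (hlet : allFrom (checkLetters M N) 0 M.nL = true)
    (hrel : ∀ l ∈ RL, checkWord M N (l.map sCode) = true)
    (hfin : Finite (PresentedGroup (wordRels RL))) {NQ : Nat}
    (hcard : Nat.card (PresentedGroup (wordRels RL)) ≤ NQ)
    (C : QModel.Chain) (hprod : ((List.range M.k).map C.size).prod = NQ)
    (hg : allFrom (fun l => allFrom (QModel.checkGen M C l) 0 (C.nGen l)) 0 M.k = true)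
    (hp : allFrom (fun l => allFrom (QModel.checkPt M C l) 0 (C.size l)) 0 M.k = true) :
    ∃ P : QModel (PresentedGroup (wordRels RL)), P.toTab = M ∧ P.q = letterEl RL := by
  obtain ⟨ρ, hρ⟩ := exists_perm M N RL hnL hlet hrel
  have A : Acts ρ M (letterEl RL) bp :=
    { small := hN
      act_eq := fun g hg p => by
        have := hρ (Fin.ofNat (n + 1) (g / 2), Nat.beq (g % 2) 0) p
        rwa [sCode_letter (by omega)] at this
      act_lt := hlt
      base_eq := hbase }
  refine ⟨A.toQModel (A.faithful C hcard hprod ?_ ?_), rfl, rfl⟩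
  · intro l a hl ha
    exact allFrom_all (allFrom_all hg hl) ha
  · intro l a hl ha
    exact allFrom_all (allFrom_all hp hl) ha

end Cfsg.Agent.HNOrder
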