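import Cfsg.Agent.HNOrder.PermHom

/-!
Identities between words in a presented group from a list of conjugated relators.
-/

namespace Cfsg.Agent.HNOrder

open Cfsg.Agent.CosetCert Cfsg.Agent.DCoset

variable {n : Nat}

/-- The signed generator of a letter. -/
def letOf (n g : Nat) : Fin (n + 1) × Bool := (Fin.ofNat (n + 1) (g / 2), Nat.beq (g % 2) 0)

/-- The first letters of a packed word body. -/
def wordOf (n : Nat) : Nat → Nat → List (Fin (n + 1) × Bool)
  | 0, _ => []
  | k + 1, w => letOf n (w % 256) :: wordOf n k (w / 256)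

/-- The signed word of a packed word. -/
def unpack (n w : Nat) : List (Fin (n + 1) × Bool) := wordOf n (w % 65536) (w / 65536)

/-- The element of a signed word. -/
def wd (RL : List (List (Fin n × Bool))) (l : List (Fin n × Bool)) : PresentedGroup (wordRels RL) :=
  PresentedGroup.mk (wordRels RL) (FreeGroup.mk l)

variable (RL : List (List (Fin n × Bool)))

theorem wd_nil : wd RL [] = 1 := map_one _

theorem wd_append (a b : List (Fin n × Bool)) : wd RL (a ++ b) = wd RL a * wd RL b := by
  rw [wd, wd, wd, ← FreeGroup.mul_mk, map_mul]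

theorem wd_invRev (a : List (Fin n × Bool)) : wd RL (FreeGroup.invRev a) = (wd RL a)⁻¹ := by
  rw [wd, wd, ← FreeGroup.inv_mk, map_inv]

theorem wd_flatMap {ι : Type*} (L : List ι) (f : ι → List (Fin n × Bool)) :
    wd RL (L.flatMap f) = (L.map fun i => wd RL (f i)).prod := by
  induction L with
  | nil => simp [wd_nil]
  | cons a t ih => rw [List.flatMap_cons, wd_append, ih, List.map_cons, List.prod_cons]

theorem wd_rel {l : List (Fin n × Bool)} (h : l ∈ RL) : wd RL l = 1 :=
  PresentedGroup.one_of_mem (List.mem_map_of_mem h)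

theorem valW_letterEl (RL : List (List (Fin (n + 1) × Bool))) : ∀ k w,
    valW (letterEl RL) k w = wd RL (wordOf n k w)
  | 0, _ => (wd_nil RL).symm
  | k + 1, w => by
    rw [valW, valW_letterEl RL k, wordOf, ← List.singleton_append, wd_append]
    rfl

theorem val_letterEl (RL : List (List (Fin (n + 1) × Bool))) (w : Nat) :
    val (letterEl RL) w = wd RL (unpack n w) := valW_letterEl RL _ _

/-- Conjugates of relators and their inverses, spelled out. -/
def derivWord (cert : List (List (Fin n × Bool) × Nat × Bool)) : List (Fin n × Bool) :=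
  cert.flatMap fun c =>
    c.1 ++ (cond c.2.2 (RL.getD c.2.1 []) (FreeGroup.invRev (RL.getD c.2.1 []))) ++ FreeGroup.invRev c.1

theorem wd_derivWord (cert : List (List (Fin n × Bool) × Nat × Bool)) : wd RL (derivWord RL cert) = 1 := by
  have h0 : ∀ i, wd RL (RL.getD i []) = 1 := by
    intro i
    rcases Nat.lt_or_ge i RL.length with h | h
    · rw [List.getD_eq_getElem _ _ h]
      exact wd_rel RL (List.getElem_mem h)
    · rw [List.getD_eq_default _ _ h, wd_nil]
  rw [derivWord, wd_flatMap]
  refine List.prod_eq_one fun x hx => ?_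
  obtain ⟨⟨c, i, s⟩, -, rfl⟩ := List.mem_map.1 hx
  cases s <;> simp only [cond_true, cond_false, wd_append, wd_invRev, h0] <;> simp

/-- A checked derivation proves two words equal. -/
theorem wd_eq_of_deriv {a b : List (Fin n × Bool)} (cert : List (List (Fin n × Bool) × Nat × Bool))
    (h : FreeGroup.reduce (a ++ FreeGroup.invRev b) = FreeGroup.reduce (derivWord RL cert)) :
    wd RL a = wd RL b := by
  have e : wd RL (a ++ FreeGroup.invRev b) = 1 := by
    rw [wd, FreeGroup.reduce.exact h]
    exact wd_derivWord RL cert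
  rwa [wd_append, wd_invRev, mul_inv_eq_one] at e

/-- A homomorphism renaming the generators. -/
theorem exists_rename {m : Nat} (R : List (List (Fin m × Bool))) (S : List (List (Fin n × Bool)))
    (f : Fin m → Fin n) (h : ∀ l ∈ R, wd S (l.map fun a => (f a.1, a.2)) = 1) :
    ∃ ι : PresentedGroup (wordRels R) →* PresentedGroup (wordRels S),
      ∀ l, ι (wd R l) = wd S (l.map fun a => (f a.1, a.2)) := by
  let F : FreeGroup (Fin m) →* PresentedGroup (wordRels S) :=
    (PresentedGroup.mk (wordRels S)).comp (FreeGroup.map f)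
  have hF : ∀ l, F (FreeGroup.mk l) = wd S (l.map fun a => (f a.1, a.2)) := fun l => by
    simp only [F, MonoidHom.comp_apply, FreeGroup.map.mk]
    rfl
  have hlift : FreeGroup.lift (fun b => F (FreeGroup.of b)) = F :=
    FreeGroup.ext_hom _ _ fun b => by simp
  have hr : ∀ r ∈ wordRels R, FreeGroup.lift (fun b => F (FreeGroup.of b)) r = 1 := by
    intro r hr
    obtain ⟨l, hl, rfl⟩ := List.mem_map.1 hr
    rw [hlift, hF]
    exact h l hl
  refine ⟨PresentedGroup.toGroup hr, fun l => ?_⟩
  have : (PresentedGroup.toGroup hr).comp (PresentedGroup.mk (wordRels R)) = F :=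
    FreeGroup.ext_hom _ _ fun b => by
      rw [MonoidHom.comp_apply]
      exact PresentedGroup.toGroup.of hr
  refine Eq.trans ?_ (hF l)
  exact DFunLike.congr_fun this (FreeGroup.mk l)

end Cfsg.Agent.HNOrder
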