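import Cfsg.Agent.HNOrder.PBound
import Cfsg.Agent.HNOrder.Rewrite
import Cfsg.Agent.DCoset.HSX.Chain

/-!
The presented group of order 1512000 as a model on 1512 points, and a subgroup of order at most 1000.
-/

namespace Cfsg.Agent.HNOrder

open Cfsg.Agent.CosetCert Cfsg.Agent.DCoset

set_option maxRecDepth 100000

/-- The base points. -/
def xBase (l : Nat) : Fin 1512 := if l = 0 then 0 else if l = 1 then 1 else 3

theorem x_letters : allFrom (checkLetters HSX.tab 1512) 0 HSX.tab.nL = true := by decide +kernel

theorem x_relators : ∀ l ∈ XRels, checkWord HSX.tab 1512 (l.map sCode) = true := by decide +kernel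

theorem x_prod : ((List.range HSX.tab.k).map HSX.qChain.size).prod = 1512000 := by decide +kernel

/-- The model. -/
theorem exists_xmodel : ∃ P : QModel XGroup, P.toTab = HSX.tab ∧ P.q = letterEl XRels :=
  exists_model (n := 1) HSX.tab 1512 XRels rfl (by norm_num) HSX.tab_act_lt xBase (by decide +kernel)
    x_letters x_relators xgroup_card.1 xgroup_card.2 HSX.qChain x_prod HSX.chain_gen HSX.chain_pt

/-- Generators of the subgroup. -/
def yWords : List Nat := [0x30003000202000007, 0x30103010202000007, 0x30103000202010007, 0x30003010202010007, 0x10303000200020007, 0x303010200020007, 0x303000201020007, 0x10303010201020007, 0x1030103000300030008]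

/-- Every generator is spelled and fixes the first point. -/
theorem yWords_fix : ∀ w ∈ yWords, lettersBelow HSX.tab.nL (w % 65536) (w / 65536) = true ∧
    actW HSX.tab.act (fld HSX.tab.base 0) w = fld HSX.tab.base 0 := by decide +kernel

/-- The subgroup. -/
def ySub : Subgroup XGroup := Subgroup.closure {x | ∃ w ∈ yWords, x = val (letterEl XRels) w}

theorem ySub_card : Nat.card ySub ≤ 1000 := by
  classical
  obtain ⟨P, hP, hq⟩ := exists_xmodel
  have := xgroup_card.1
  have hk : 0 < P.k := by rw [hP]; exact Nat.zero_lt_succ _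
  let f : XGroup → Nat := fun a => fld (P.tup a) 0
  have hmul : ∀ a w, lettersBelow HSX.tab.nL (w % 65536) (w / 65536) = true →
      f (a * P.el w) = actW HSX.tab.act (f a) w := by
    intro a w hw
    have := P.fld_tup_mul w (by rw [hP]; exact hw) a hk
    rw [hP] at this
    exact this
  have hY : ∀ y ∈ ySub, f y = fld HSX.tab.base 0 := by
    have hone : f 1 = fld HSX.tab.base 0 := by simp only [f, P.one, hP]
    have hS : ∀ y ∈ Submonoid.closure {x | ∃ w ∈ yWords, x = val (letterEl XRels) w},
        f y = fld HSX.tab.base 0 := by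
      intro y hy
      induction hy using Submonoid.closure_induction_right with
      | one => exact hone
      | mul_right a ha b hb ih =>
        obtain ⟨w, hw, rfl⟩ := hb
        obtain ⟨hl, hfix⟩ := yWords_fix w hw
        have := hmul a w hl
        rw [QModel.el, hq] at this
        rw [this, ih, hfix]
    intro y hy
    refine hS y ?_
    rwa [← Subgroup.closure_toSubmonoid_of_finite]
  have htr : ∀ m, m < HSX.qChain.size 0 → ∃ w : XGroup, ∀ a, f a = fld HSX.tab.base 0 →
      f (a * w) = HSX.qChain.pt 0 m := by
    intro m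
    induction m using Nat.strong_induction_on with
    | _ m ih =>
      intro hm
      have h := allFrom_all (allFrom_all HSX.chain_pt (i := 0) (by norm_num)) hm
      simp only [QModel.checkPt, force_eq, gate_eq, Bool.and_eq_true] at h
      obtain ⟨-, h⟩ := h
      cases hb : Nat.beq m 0 <;> rw [hb] at h
      · simp only [Bool.and_eq_true] at h
        obtain ⟨hr, ha, he⟩ := h
        have hr := Nat.ble_eq.mp hr
        obtain ⟨w, hw⟩ := ih _ hr (by omega)
        have hg := allFrom_all (allFrom_all HSX.chain_gen (i := 0) (by norm_num)) (Nat.ble_eq.mp ha)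
        simp only [QModel.checkGen, force_eq, gate_eq, Bool.and_eq_true] at hg
        refine ⟨w * P.el (HSX.qChain.gen 0 (HSX.qChain.via 0 m)), fun a haf => ?_⟩
        rw [← mul_assoc, hmul _ _ hg.1, hw a haf]
        exact Nat.eq_of_beq_eq_true he
      · exact ⟨1, fun a haf => by rw [mul_one, haf]; exact (Nat.eq_of_beq_eq_true h).symm⟩
  choose w hw using fun m : Fin (HSX.qChain.size 0) => htr m.1 m.2
  let Φ : ySub × Fin (HSX.qChain.size 0) → XGroup := fun x => (x.1 : XGroup) * w x.2
  have hΦ : Function.Injective Φ := by
    rintro ⟨y, m⟩ ⟨y', m'⟩ h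
    have h' : (y : XGroup) * w m = y' * w m' := h
    have e := congrArg f h'
    rw [hw m _ (hY _ y.2), hw m' _ (hY _ y'.2)] at e
    have hpos : ∀ m : Fin (HSX.qChain.size 0), HSX.qChain.pos 0 (HSX.qChain.pt 0 m) = m := fun m => by
      have h := allFrom_all (allFrom_all HSX.chain_pt (i := 0) (by norm_num)) m.2
      simp only [QModel.checkPt, force_eq, gate_eq, Bool.and_eq_true] at h
      exact Nat.eq_of_beq_eq_true h.1
    have hmm : m = m' := Fin.ext (by rw [← hpos m, e, hpos m'])
    subst hmm
    exact Prod.ext (Subtype.ext (mul_right_cancel h')) rfl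
  have h := Nat.card_le_card_of_injective Φ hΦ
  rw [Nat.card_prod, Nat.card_fin, show HSX.qChain.size 0 = 1512 by decide +kernel] at h
  have := xgroup_card.2
  change Nat.card ySub * 1512 ≤ Nat.card XGroup at h
  omega

end Cfsg.Agent.HNOrder
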